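import Mathlib

set_option autoImplicit false

/-!
# The `σ`-dual of a polynomial with nonzero constant term
-/

namespace Cfsg.Agent.Lib.Helper5.SemiCount

open Polynomial

section star
variable {F : Type*} [Field F] (σ : F →+* F)

/-- the `σ`-dual of a polynomial with nonzero constant term: the monic polynomial whose roots are
the `σ`-conjugates of the inverses of the roots -/
noncomputable def star (f : F[X]) : F[X] := C (σ (f.coeff 0))⁻¹ * (f.map σ).reverse

theorem star_mul (f g : F[X]) : star σ (f * g) = star σ f * star σ g := by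
  unfold star
  rw [mul_coeff_zero, map_mul, mul_inv, C_mul, Polynomial.map_mul, reverse_mul_of_domain]
  ring

theorem natTrailingDegree_map_eq_zero {f : F[X]} (hf0 : f.coeff 0 ≠ 0) :
    (f.map σ).natTrailingDegree = 0 := by
  apply natTrailingDegree_eq_zero_of_constantCoeff_ne_zero
  rw [constantCoeff_apply, coeff_map]
  exact (map_ne_zero σ).mpr hf0

theorem star_natDegree {f : F[X]} (hf0 : f.coeff 0 ≠ 0) : (star σ f).natDegree = f.natDegree := by
  unfold star
  rw [natDegree_C_mul (inv_ne_zero ((map_ne_zero σ).mpr hf0)), reverse_natDegree,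
    natTrailingDegree_map_eq_zero σ hf0, Nat.sub_zero, natDegree_map]

theorem star_coeff (f : F[X]) (i : ℕ) (hi : i ≤ f.natDegree) :
    (star σ f).coeff i = (σ (f.coeff 0))⁻¹ * σ (f.coeff (f.natDegree - i)) := by
  unfold star
  rw [coeff_C_mul, coeff_reverse, natDegree_map, revAt_le hi, coeff_map]

theorem star_monic {f : F[X]} (hf0 : f.coeff 0 ≠ 0) : (star σ f).Monic := by
  rw [Monic, leadingCoeff, star_natDegree σ hf0, star_coeff σ f _ le_rfl, Nat.sub_self]
  exact inv_mul_cancel₀ ((map_ne_zero σ).mpr hf0)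

theorem star_coeff_zero {f : F[X]} (hf : f.Monic) : (star σ f).coeff 0 = (σ (f.coeff 0))⁻¹ := by
  rw [star_coeff σ f 0 (Nat.zero_le _), Nat.sub_zero, coeff_natDegree, hf.leadingCoeff, map_one,
    mul_one]

theorem star_coeff_zero_ne_zero {f : F[X]} (hf : f.Monic) (hf0 : f.coeff 0 ≠ 0) :
    (star σ f).coeff 0 ≠ 0 := by
  rw [star_coeff_zero σ hf]
  exact inv_ne_zero ((map_ne_zero σ).mpr hf0)

theorem star_star (hσ2 : ∀ a, σ (σ a) = a) {f : F[X]} (hf : f.Monic) (hf0 : f.coeff 0 ≠ 0) :
    star σ (star σ f) = f := by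
  have hd : (star σ f).natDegree = f.natDegree := star_natDegree σ hf0
  have hd2 : (star σ (star σ f)).natDegree = f.natDegree := by
    rw [star_natDegree σ (star_coeff_zero_ne_zero σ hf hf0), hd]
  ext i
  rcases Nat.lt_or_ge f.natDegree i with hi | hi
  · rw [coeff_eq_zero_of_natDegree_lt (by rw [hd2]; exact hi),
      coeff_eq_zero_of_natDegree_lt hi]
  · rw [star_coeff σ _ i (by rw [hd]; exact hi), hd, star_coeff σ f _ (Nat.sub_le _ _),
      star_coeff_zero σ hf, Nat.sub_sub_self hi, map_mul, map_inv₀, hσ2, hσ2, inv_inv,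
      mul_inv_cancel_left₀ hf0]

theorem coeff_zero_ne_zero_of_dvd {f g : F[X]} (h : f ∣ g) (hg0 : g.coeff 0 ≠ 0) :
    f.coeff 0 ≠ 0 := by
  obtain ⟨k, rfl⟩ := h
  rw [mul_coeff_zero] at hg0
  exact left_ne_zero_of_mul hg0

theorem star_dvd {f g : F[X]} (h : f ∣ g) : star σ f ∣ star σ g := by
  obtain ⟨k, rfl⟩ := h
  rw [star_mul]
  exact dvd_mul_right _ _

end star

section matrix
variable {F : Type*} [Field F] (σ : F →+* F) {ι : Type*} [Fintype ι] [DecidableEq ι]

theorem map_reverse_eq (f : F[X]) : (f.reverse).map σ = (f.map σ).reverse := by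
  rw [reverse, reverse, natDegree_map, reflect_map]

/-- the characteristic polynomial of the `σ`-conjugate inverse transpose -/
theorem charpoly_inv_map_transpose (M : Matrix ι ι F) (hM : M.det ≠ 0) :
    ((M⁻¹).map σ).transpose.charpoly = star σ M.charpoly := by
  have hu : IsUnit M := (Matrix.isUnit_iff_isUnit_det M).mpr (isUnit_iff_ne_zero.mpr hM)
  have hdet := Matrix.det_eq_sign_charpoly_coeff M
  have hc0 : M.charpoly.coeff 0 ≠ 0 := by
    intro h0
    rw [h0, mul_zero] at hdet
    exact hM hdet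
  have hc0' : M.charpoly.coeff 0 = (-1) ^ Fintype.card ι * M.det := by
    rw [hdet, ← mul_assoc, ← mul_pow, neg_one_mul, neg_neg, one_pow, one_mul]
  rw [Matrix.charpoly_transpose, Matrix.charpoly_map, Matrix.charpoly_inv M hu,
    ← Matrix.reverse_charpoly, Ring.inverse_eq_inv', Polynomial.map_mul, Polynomial.map_mul,
    map_reverse_eq, star, Polynomial.map_pow, Polynomial.map_neg, Polynomial.map_one, map_C, hc0']
  have h1 : ((-1 : F[X]) ^ Fintype.card ι) = C ((-1 : F) ^ Fintype.card ι) := by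
    rw [C_pow, C_neg, C_1]
  rw [h1, ← C_mul]
  congr 2
  rw [map_mul, map_pow, map_neg, map_one, map_inv₀, mul_inv, ← inv_pow, inv_neg_one]

end matrix

end Cfsg.Agent.Lib.Helper5.SemiCount
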