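import Mathlib

set_option autoImplicit false

/-!
# Characteristic polynomials of symplectic matrices are palindromic; the Frobenius-power trick
-/

namespace Cfsg.Agent.Lib.Helper5.SemiCount

open Polynomial Matrix

section frob
variable {F : Type*} [Field F] [Fintype F] {ι : Type*} [Fintype ι] [DecidableEq ι]

theorem charpoly_pow_card_pow (M : Matrix ι ι F) (N : ℕ) :
    (M ^ (Fintype.card F ^ N)).charpoly = M.charpoly := by
  induction N with
  | zero => rw [pow_zero, pow_one]
  | succ N ih => rw [pow_succ, pow_mul, FiniteField.Matrix.charpoly_pow_card, ih]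

/-- In a group of matrices over a finite field of characteristic `p`, every element has a power
of order prime to `p` with the same characteristic polynomial. -/
theorem exists_coprime_order_same_charpoly (p : ℕ) [Fact p.Prime] [CharP F p] {G : Type*} [Group G]
    (ρ : G →* Matrix ι ι F) (g : G) (hfin : IsOfFinOrder g) :
    ∃ h : G, (orderOf h).Coprime p ∧ (ρ h).charpoly = (ρ g).charpoly := by
  have hp : p.Prime := Fact.out
  have ho : orderOf g ≠ 0 := (orderOf_pos_iff.mpr hfin).ne'
  obtain ⟨a, m, hm, hom⟩ := Nat.exists_eq_pow_mul_and_not_dvd ho p hp.ne_one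
  obtain ⟨f, hf⟩ := FiniteField.card F p
  have hcard : Fintype.card F = p ^ (f : ℕ) := hf.2
  refine ⟨g ^ (Fintype.card F ^ a), ?_, ?_⟩
  · have h1 : (g ^ (Fintype.card F ^ a)) ^ m = 1 := by
      rw [← pow_mul]
      apply orderOf_dvd_iff_pow_eq_one.mp
      rw [hom, hcard, ← pow_mul]
      apply Nat.mul_dvd_mul_right
      apply pow_dvd_pow
      have : 1 ≤ (f : ℕ) := f.2
      nlinarith
    have h2 : orderOf (g ^ (Fintype.card F ^ a)) ∣ m := orderOf_dvd_of_pow_eq_one h1
    have h3 : m.Coprime p := ((Nat.Prime.coprime_iff_not_dvd hp).mpr hm).symm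
    exact Nat.Coprime.coprime_dvd_left h2 h3
  · rw [map_pow, charpoly_pow_card_pow]

end frob

section symp
variable {F : Type*} [Field F] (n : ℕ)

theorem symp_charpoly_inv (A : Matrix (Fin n ⊕ Fin n) (Fin n ⊕ Fin n) F)
    (hA : A ∈ Matrix.symplecticGroup (Fin n) F) : A⁻¹.charpoly = A.charpoly := by
  rw [SymplecticGroup.inv_eq_symplectic_inv A hA, Matrix.charpoly_mul_comm, ← Matrix.mul_assoc,
    Matrix.mul_neg, J_squared, neg_neg, Matrix.one_mul, Matrix.charpoly_transpose]

theorem symp_charpoly_reverse (A : Matrix (Fin n ⊕ Fin n) (Fin n ⊕ Fin n) F)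
    (hA : A ∈ Matrix.symplecticGroup (Fin n) F) : A.charpoly.reverse = A.charpoly := by
  have hdet := SymplecticGroup.det_eq_one hA
  have hu : IsUnit A := (Matrix.isUnit_iff_isUnit_det A).mpr (by rw [hdet]; exact isUnit_one)
  have h1 := Matrix.charpoly_inv A hu
  rw [symp_charpoly_inv n A hA, hdet, Ring.inverse_one, C_1, mul_one, ← Matrix.reverse_charpoly]
    at h1
  have hcard : Fintype.card (Fin n ⊕ Fin n) = 2 * n := by
    rw [Fintype.card_sum, Fintype.card_fin]; ring
  rw [hcard, pow_mul, neg_one_sq, one_pow, one_mul] at h1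
  exact h1.symm

theorem symp_charpoly_coeff_symm (A : Matrix (Fin n ⊕ Fin n) (Fin n ⊕ Fin n) F)
    (hA : A ∈ Matrix.symplecticGroup (Fin n) F) (i : ℕ) (hi : i ≤ 2 * n) :
    A.charpoly.coeff i = A.charpoly.coeff (2 * n - i) := by
  have hcard : Fintype.card (Fin n ⊕ Fin n) = 2 * n := by
    rw [Fintype.card_sum, Fintype.card_fin]; ring
  have hdeg : A.charpoly.natDegree = 2 * n := by
    rw [Matrix.charpoly_natDegree_eq_dim, hcard]
  conv_lhs => rw [← symp_charpoly_reverse n A hA, coeff_reverse, hdeg, revAt_le hi]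

end symp

end Cfsg.Agent.Lib.Helper5.SemiCount
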