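import Mathlib
import Cfsg.Agent.Lib.Helper5.HermBridge
import Cfsg.Agent.Lib.Helper5.HermBasis
import Cfsg.Agent.Lib.Helper5.HermBlock

set_option autoImplicit false

/-!
# Realising characteristic polynomials in general unitary groups
-/

namespace Cfsg.Agent.Lib.Helper5.SemiCount

open Polynomial Module Matrix Cfsg
open Cfsg.Agent.Lib.Helper5.HermBridge Cfsg.Agent.Lib.Helper5.HermBasis
open Cfsg.Agent.Lib.Helper5.HermBlock

universe u

section real
variable {F : Type u} [Field F] [Fintype F] {q : ℕ} (hF : Fintype.card F = q ^ 2)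

/-- matrix-level realisability of a polynomial as a characteristic polynomial in some `GU_m(q)` -/
def RealGU (q : ℕ) (χ : F[X]) : Prop :=
  ∃ (m : ℕ) (A : Matrix.GeneralLinearGroup (Fin m) F), A ∈ Cfsg.GU m F q ∧
    (A : Matrix (Fin m) (Fin m) F).charpoly = χ

theorem realGU_of_isometry {V : Type u} [AddCommGroup V] [Module F V] [FiniteDimensional F V]
    (B : V →ₛₗ[sigma hF] V →ₗ[F] F) (hS : B.IsSymm) (hB : B.Nondegenerate)
    (g : V →ₗ[F] V) (hg : ∀ x y, B (g x) (g y) = B x y) : RealGU q (LinearMap.charpoly g) := by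
  obtain ⟨b, hb⟩ := exists_orthonormal_basis (sigma_ne_id hF) (sigma_sigma hF) B hS hB
  have key : ∀ x y : V, B x y = hermForm (finrank F V) F q (b.equivFun y) (b.equivFun x) := by
    intro x y
    conv_lhs => rw [← b.sum_equivFun x, ← b.sum_equivFun y]
    simp only [map_sum, LinearMap.sum_apply, map_smulₛₗ, LinearMap.smul_apply, hb, smul_eq_mul,
      mul_ite, mul_one, mul_zero, sigma_apply, RingHom.id_apply]
    unfold hermForm
    apply Finset.sum_congr rfl
    intro i _
    rw [Finset.sum_ite_eq' Finset.univ i, if_pos (Finset.mem_univ i)]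
  have hinj : Function.Injective g := by
    rw [← LinearMap.ker_eq_bot, LinearMap.ker_eq_bot']
    intro x hx
    apply hB.1
    intro y
    rw [← hg, hx, map_zero, LinearMap.zero_apply]
  let g' : V ≃ₗ[F] V := LinearEquiv.ofInjectiveEndo g hinj
  have hg' : ∀ v, g' v = g v := fun v => rfl
  let φ : (Fin (finrank F V) → F) ≃ₗ[F] (Fin (finrank F V) → F) :=
    (b.equivFun.symm.trans g').trans b.equivFun
  have hφ : ∀ u, φ u = b.equivFun (g (b.equivFun.symm u)) := fun u => rfl
  have hφB : ∀ u v, hermForm (finrank F V) F q (φ u) (φ v) = hermForm (finrank F V) F q u v := by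
    intro u v
    rw [hφ, hφ, ← key, hg, key, LinearEquiv.apply_symm_apply, LinearEquiv.apply_symm_apply]
  obtain ⟨A, hA⟩ := exists_GU_of_isometry (finrank F V) φ hφB
  refine ⟨finrank F V, (A : Matrix.GeneralLinearGroup (Fin (finrank F V)) F), A.2, ?_⟩
  rw [← Matrix.charpoly_toLin', ← LinearEquiv.charpoly_conj b.equivFun g]
  congr 1
  apply LinearMap.ext
  intro v
  rw [Matrix.toLin'_apply, hA, hφ, LinearEquiv.conj_apply]
  rfl

omit [Fintype F] in
theorem realGU_one : RealGU q (1 : F[X]) :=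
  ⟨0, 1, Subgroup.one_mem _, Matrix.charpoly_isEmpty⟩

omit [Fintype F] in
theorem charpoly_blockDiag (k l : ℕ) (M₁ : Matrix (Fin k) (Fin k) F) (M₂ : Matrix (Fin l) (Fin l) F) :
    (blockDiag k l M₁ M₂).charpoly = M₁.charpoly * M₂.charpoly := by
  have h : blockDiag k l M₁ M₂ =
      Matrix.reindex (finSumFinEquiv (m := k) (n := l)) (finSumFinEquiv (m := k) (n := l))
        (fromBlocks M₁ 0 0 M₂) := rfl
  rw [h, Matrix.charpoly_reindex, Matrix.charpoly_fromBlocks_zero₁₂]

include hF in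
theorem realGU_mul {χ₁ χ₂ : F[X]} (h₁ : RealGU q χ₁) (h₂ : RealGU q χ₂) : RealGU q (χ₁ * χ₂) := by
  obtain ⟨m₁, A₁, hA₁, hc₁⟩ := h₁
  obtain ⟨m₂, A₂, hA₂, hc₂⟩ := h₂
  refine ⟨m₁ + m₂, blockGL m₁ m₂ (A₁, A₂), blockGL_mem_GU hF m₁ m₂ (A₁, A₂) hA₁ hA₂, ?_⟩
  rw [blockGL_val, charpoly_blockDiag, hc₁, hc₂]

end real

end Cfsg.Agent.Lib.Helper5.SemiCount
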