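import Mathlib
import Cfsg.Agent.Lib.Helper5.SemiConj.Field
import Cfsg.Agent.Lib.Helper5.SemiCount.Star
import Cfsg.Agent.Lib.Helper5.SemiCount.UReal

set_option autoImplicit false

/-!
# The unitary block attached to a self-dual irreducible polynomial
-/

namespace Cfsg.Agent.Lib.Helper5.SemiCount

open Polynomial Module Cfsg
open Cfsg.Agent.Lib.Helper5.HermBridge Cfsg.Agent.Lib.Helper5.SemiConj

universe u

section prep
variable {F : Type u} [Field F] (σ : F →+* F) {f r : F[X]}

theorem exists_inv_X_of_coeff_zero (hf0 : f.coeff 0 ≠ 0) : ∃ r : F[X], f ∣ X * r - 1 := by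
  refine ⟨-(C (f.coeff 0)⁻¹ * f.divX), ⟨-C (f.coeff 0)⁻¹, ?_⟩⟩
  have h := divX_mul_X_add f
  have hc : C (f.coeff 0)⁻¹ * C (f.coeff 0) = (1 : F[X]) := by
    rw [← C_mul, inv_mul_cancel₀ hf0, C_1]
  linear_combination hc - C (f.coeff 0)⁻¹ * h

theorem sd_of_star_eq (hf0 : f.coeff 0 ≠ 0) (hst : star σ f = f) (hr : f ∣ X * r - 1) :
    f ∣ (f.map σ).comp r := by
  rw [← AdjoinRoot.mk_eq_zero]
  have hxy : AdjoinRoot.root f * AdjoinRoot.mk f r = 1 := root_mul_mk hr
  let _ : Invertible (AdjoinRoot.mk f r) :=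
    ⟨AdjoinRoot.root f, hxy, by rw [mul_comm]; exact hxy⟩
  have h1 : AdjoinRoot.mk f ((f.map σ).comp r) =
      eval₂ (AdjoinRoot.of f) (AdjoinRoot.mk f r) (f.map σ) := by
    rw [comp, Polynomial.hom_eval₂]
    congr 1
  rw [h1, ← eval₂_reverse_mul_pow (AdjoinRoot.of f) (AdjoinRoot.mk f r) (f.map σ)]
  have h2 : ⅟(AdjoinRoot.mk f r) = AdjoinRoot.root f := rfl
  have h3 : (f.map σ).reverse = C (σ (f.coeff 0)) * f := by
    symm
    calc C (σ (f.coeff 0)) * f = C (σ (f.coeff 0)) * star σ f := by rw [hst]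
      _ = C (σ (f.coeff 0)) * (C (σ (f.coeff 0))⁻¹ * (f.map σ).reverse) := rfl
      _ = (f.map σ).reverse := by
        rw [← mul_assoc, ← C_mul, mul_inv_cancel₀ ((map_ne_zero σ).mpr hf0), C_1, one_mul]
  rw [h2, h3, eval₂_mul, AdjoinRoot.eval₂_root, mul_zero, zero_mul]

theorem tau_smul (hsd : f ∣ (f.map σ).comp r) (c : F) (a : AdjoinRoot f) :
    tau σ f r hsd (c • a) = σ c • tau σ f r hsd a := by
  rw [Algebra.smul_def, Algebra.smul_def, map_mul, AdjoinRoot.algebraMap_eq, tau_of]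

theorem trace_tau (hσ2 : ∀ a, σ (σ a) = a) (hr : f ∣ X * r - 1) (hsd : f ∣ (f.map σ).comp r)
    (e : AdjoinRoot f) :
    Algebra.trace F (AdjoinRoot f) (tau σ f r hsd e) = σ (Algebra.trace F (AdjoinRoot f) e) := by
  let e₁ : F ≃+* F := RingEquiv.ofRingHom σ σ (RingHom.ext hσ2) (RingHom.ext hσ2)
  let e₂ : AdjoinRoot f ≃+* AdjoinRoot f := RingEquiv.ofRingHom (tau σ f r hsd) (tau σ f r hsd)
    (RingHom.ext (tau_tau hσ2 hr hsd)) (RingHom.ext (tau_tau hσ2 hr hsd))
  have he : (algebraMap F (AdjoinRoot f)).comp (e₁ : F →+* F) =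
      (e₂ : AdjoinRoot f →+* AdjoinRoot f).comp (algebraMap F (AdjoinRoot f)) := by
    ext c
    simp only [RingHom.comp_apply, AdjoinRoot.algebraMap_eq]
    exact (tau_of hsd c).symm
  have h := Algebra.trace_eq_of_equiv_equiv e₁ e₂ he e
  have h2 : e₂ e = tau σ f r hsd e := rfl
  rw [h2] at h
  rw [h]
  exact (e₁.apply_symm_apply _).symm

theorem charpoly_lmul_root [Module.Finite F (AdjoinRoot f)] (hm : f.Monic) :
    LinearMap.charpoly (Algebra.lmul F (AdjoinRoot f) (AdjoinRoot.root f)) = f := by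
  have hne : f ≠ 0 := hm.ne_zero
  have h1 := charpoly_leftMulMatrix (AdjoinRoot.powerBasis hne)
  rw [Algebra.leftMulMatrix_apply, LinearMap.charpoly_toMatrix, AdjoinRoot.powerBasis_gen,
    AdjoinRoot.minpoly_root hne, hm.leadingCoeff, inv_one, C_1, mul_one] at h1
  exact h1

end prep

section field
variable {F : Type u} [Field F] [Fintype F] {q : ℕ} (hF : Fintype.card F = q ^ 2)

theorem realGU_field {f : F[X]} (hirr : Irreducible f) (hm : f.Monic) (hf0 : f.coeff 0 ≠ 0)
    (hst : star (sigma hF) f = f) : RealGU q f := by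
  have : Fact (Irreducible f) := ⟨hirr⟩
  have : FiniteDimensional F (AdjoinRoot f) := finiteDimensional_adjoinRoot f hm.ne_zero
  obtain ⟨r, hr⟩ := exists_inv_X_of_coeff_zero hf0
  have hsd := sd_of_star_eq (sigma hF) hf0 hst hr
  have hσ2 := sigma_sigma hF
  obtain ⟨τ, hτdef⟩ : ∃ τ : AdjoinRoot f →+* AdjoinRoot f, τ = tau (sigma hF) f r hsd := ⟨_, rfl⟩
  have hττ : ∀ e, τ (τ e) = e := by rw [hτdef]; exact tau_tau hσ2 hr hsd
  have hτs : ∀ (c : F) (a : AdjoinRoot f), τ (c • a) = sigma hF c • τ a := by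
    rw [hτdef]; exact tau_smul (sigma hF) hsd
  have hτtr : ∀ e, Algebra.trace F (AdjoinRoot f) (τ e) =
      sigma hF (Algebra.trace F (AdjoinRoot f) e) := by
    rw [hτdef]; exact trace_tau (sigma hF) hσ2 hr hsd
  have hτx : τ (AdjoinRoot.root f) * AdjoinRoot.root f = 1 := by
    rw [hτdef, tau_root, mul_comm]; exact root_mul_mk hr
  let B : AdjoinRoot f →ₛₗ[sigma hF] AdjoinRoot f →ₗ[F] F :=
    LinearMap.mk₂'ₛₗ (sigma hF) (RingHom.id F)
      (fun a b => Algebra.trace F (AdjoinRoot f) (τ a * b))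
      (fun a a' b => by rw [map_add, add_mul, map_add])
      (fun c a b => by rw [hτs, smul_mul_assoc, map_smul])
      (fun a b b' => by rw [mul_add, map_add])
      (fun c a b => by rw [mul_smul_comm, map_smul, RingHom.id_apply])
  have hB : ∀ a b, B a b = Algebra.trace F (AdjoinRoot f) (τ a * b) := fun a b => rfl
  have hS : B.IsSymm := ⟨fun a b => by
    rw [hB, hB, ← hτtr, map_mul, hττ, mul_comm]⟩
  have hnd := traceForm_nondegenerate F (AdjoinRoot f)
  have hτinj : Function.Injective τ := RingHom.injective τ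
  have hN : B.Nondegenerate := by
    constructor
    · intro a ha
      have : τ a = 0 := by
        apply hnd.1
        intro b
        rw [Algebra.traceForm_apply]
        exact ha b
      exact hτinj (by rw [this, map_zero])
    · intro b hb
      apply hnd.2
      intro c
      rw [Algebra.traceForm_apply]
      have := hb (τ c)
      rwa [hB, hττ] at this
  have hg : ∀ a b, B (Algebra.lmul F (AdjoinRoot f) (AdjoinRoot.root f) a)
      (Algebra.lmul F (AdjoinRoot f) (AdjoinRoot.root f) b) = B a b := by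
    intro a b
    rw [hB, hB]
    congr 1
    show τ (AdjoinRoot.root f * a) * (AdjoinRoot.root f * b) = τ a * b
    rw [map_mul]
    calc τ (AdjoinRoot.root f) * τ a * (AdjoinRoot.root f * b)
        = (τ (AdjoinRoot.root f) * AdjoinRoot.root f) * (τ a * b) := by ring
      _ = τ a * b := by rw [hτx, one_mul]
  have := realGU_of_isometry hF B hS hN _ hg
  rwa [charpoly_lmul_root hm] at this

end field

end Cfsg.Agent.Lib.Helper5.SemiCount
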