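import Mathlib
import Cfsg.Agent.Lib.Helper5.SemiCount.Star
import Cfsg.Agent.Lib.Helper5.SemiCount.UReal

set_option autoImplicit false

/-!
# The hyperbolic unitary block attached to an arbitrary monic polynomial
-/

namespace Cfsg.Agent.Lib.Helper5.SemiCount

open Polynomial Module Matrix Cfsg
open Cfsg.Agent.Lib.Helper5.HermBridge

universe u

section sv
variable {F : Type u} [Field F] (σ : F →+* F) {d : ℕ}

/-- apply `σ` to the coordinates -/
def sv (u : Fin d → F) : Fin d → F := fun i => σ (u i)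

theorem sv_add (u v : Fin d → F) : sv σ (u + v) = sv σ u + sv σ v := by
  funext i; exact map_add σ _ _

theorem sv_smul (c : F) (u : Fin d → F) : sv σ (c • u) = σ c • sv σ u := by
  funext i; exact map_mul σ _ _

theorem sv_sv (hσ2 : ∀ a, σ (σ a) = a) (u : Fin d → F) : sv σ (sv σ u) = u := by
  funext i; exact hσ2 _

theorem sv_dot (u v : Fin d → F) : σ (u ⬝ᵥ v) = sv σ u ⬝ᵥ sv σ v := by
  unfold dotProduct sv
  rw [map_sum]
  exact Finset.sum_congr rfl (fun i _ => map_mul σ _ _)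

theorem sv_mulVec (M : Matrix (Fin d) (Fin d) F) (u : Fin d → F) :
    sv σ (M *ᵥ u) = M.map σ *ᵥ sv σ u := by
  funext i
  unfold sv Matrix.mulVec dotProduct
  rw [map_sum]
  exact Finset.sum_congr rfl (fun j _ => map_mul σ _ _)

theorem mulVec_dot_mulVec (A C : Matrix (Fin d) (Fin d) F) (a b : Fin d → F) :
    (A *ᵥ a) ⬝ᵥ (C *ᵥ b) = a ⬝ᵥ ((Aᵀ * C) *ᵥ b) := by
  rw [dotProduct_comm, Matrix.dotProduct_mulVec, ← Matrix.mulVec_transpose, dotProduct_comm,
    Matrix.mulVec_mulVec]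

/-- the hyperbolic hermitian form on `F^d × F^d` -/
def hypForm (d : ℕ) : ((Fin d → F) × (Fin d → F)) →ₛₗ[σ] ((Fin d → F) × (Fin d → F)) →ₗ[F] F :=
  LinearMap.mk₂'ₛₗ σ (RingHom.id F)
    (fun u v => sv σ u.1 ⬝ᵥ v.2 + sv σ u.2 ⬝ᵥ v.1)
    (fun u u' v => by
      rw [Prod.fst_add, Prod.snd_add, sv_add, sv_add, add_dotProduct, add_dotProduct]; ring)
    (fun c u v => by
      rw [Prod.smul_fst, Prod.smul_snd, sv_smul, sv_smul, smul_dotProduct, smul_dotProduct,
        smul_add])
    (fun u v v' => by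
      rw [Prod.fst_add, Prod.snd_add, dotProduct_add, dotProduct_add]; ring)
    (fun c u v => by
      rw [Prod.smul_fst, Prod.smul_snd, dotProduct_smul, dotProduct_smul, RingHom.id_apply,
        smul_add])

theorem hypForm_apply (u v : (Fin d → F) × (Fin d → F)) :
    hypForm σ d u v = sv σ u.1 ⬝ᵥ v.2 + sv σ u.2 ⬝ᵥ v.1 := rfl

theorem hypForm_isSymm (hσ2 : ∀ a, σ (σ a) = a) : (hypForm σ d).IsSymm := ⟨fun u v => by
  rw [hypForm_apply, hypForm_apply, map_add, sv_dot, sv_dot, sv_sv σ hσ2, sv_sv σ hσ2,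
    dotProduct_comm u.1, dotProduct_comm u.2, add_comm]⟩

theorem hypForm_nondegenerate (hσ2 : ∀ a, σ (σ a) = a) : (hypForm σ d).Nondegenerate := by
  have hleft : (hypForm σ d).SeparatingLeft := by
    intro u hu
    apply Prod.ext
    · funext i
      have := hu (0, Pi.single i 1)
      rw [hypForm_apply] at this
      simp only [dotProduct_zero, add_zero, dotProduct_single, mul_one] at this
      exact (map_eq_zero σ).mp this
    · funext i
      have := hu (Pi.single i 1, 0)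
      rw [hypForm_apply] at this
      simp only [dotProduct_zero, zero_add, dotProduct_single, mul_one] at this
      exact (map_eq_zero σ).mp this
  refine ⟨hleft, ?_⟩
  intro v hv
  apply hleft
  intro u
  rw [← (hypForm_isSymm σ hσ2).eq u v, hv u, map_zero]

theorem map_map_self (hσ2 : ∀ a, σ (σ a) = a) (M : Matrix (Fin d) (Fin d) F) :
    (M.map σ).map σ = M := by
  ext i j
  rw [Matrix.map_apply, Matrix.map_apply, hσ2]

theorem hypForm_isometry (hσ2 : ∀ a, σ (σ a) = a) (M : Matrix (Fin d) (Fin d) F)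
    (hM : M.det ≠ 0) (u v : (Fin d → F) × (Fin d → F)) :
    hypForm σ d (((Matrix.toLin' M).prodMap (Matrix.toLin' ((M⁻¹).map σ)ᵀ)) u)
      (((Matrix.toLin' M).prodMap (Matrix.toLin' ((M⁻¹).map σ)ᵀ)) v) = hypForm σ d u v := by
  have hu : IsUnit M.det := isUnit_iff_ne_zero.mpr hM
  have h1 : (M.map σ)ᵀ * ((M⁻¹).map σ)ᵀ = 1 := by
    rw [← Matrix.transpose_mul, ← Matrix.map_mul, Matrix.nonsing_inv_mul M hu,
      Matrix.map_one σ (map_zero σ) (map_one σ), Matrix.transpose_one]
  have h2 : ((((M⁻¹).map σ)ᵀ).map σ)ᵀ * M = 1 := by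
    rw [Matrix.transpose_map, Matrix.transpose_transpose, map_map_self σ hσ2,
      Matrix.nonsing_inv_mul M hu]
  rw [hypForm_apply, hypForm_apply]
  simp only [LinearMap.prodMap_apply, Matrix.toLin'_apply]
  rw [sv_mulVec, sv_mulVec, mulVec_dot_mulVec, mulVec_dot_mulVec, h1, h2, Matrix.one_mulVec,
    Matrix.one_mulVec]

end sv

section hyp
variable {F : Type u} [Field F] [Fintype F] {q : ℕ} (hF : Fintype.card F = q ^ 2)

omit [Fintype F] in
theorem exists_matrix_charpoly {f : F[X]} (hm : f.Monic) :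
    ∃ (d : ℕ) (M : Matrix (Fin d) (Fin d) F), M.charpoly = f := by
  have hne : f ≠ 0 := hm.ne_zero
  refine ⟨(AdjoinRoot.powerBasis hne).dim,
    Algebra.leftMulMatrix (AdjoinRoot.powerBasis hne).basis (AdjoinRoot.powerBasis hne).gen, ?_⟩
  rw [charpoly_leftMulMatrix, AdjoinRoot.powerBasis_gen, AdjoinRoot.minpoly_root hne,
    hm.leadingCoeff, inv_one, C_1, mul_one]

theorem realGU_hyp {f : F[X]} (hm : f.Monic) (hf0 : f.coeff 0 ≠ 0) :
    RealGU q (f * star (sigma hF) f) := by
  obtain ⟨d, M, hM⟩ := exists_matrix_charpoly hm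
  have hdet : M.det ≠ 0 := by
    rw [Matrix.det_eq_sign_charpoly_coeff, hM]
    exact mul_ne_zero (pow_ne_zero _ (neg_ne_zero.mpr one_ne_zero)) hf0
  have hσ2 := sigma_sigma hF
  have h := realGU_of_isometry hF (hypForm (sigma hF) d) (hypForm_isSymm _ hσ2)
    (hypForm_nondegenerate _ hσ2) _ (hypForm_isometry (sigma hF) hσ2 M hdet)
  rwa [LinearMap.charpoly_prodMap, Matrix.charpoly_toLin', Matrix.charpoly_toLin',
    charpoly_inv_map_transpose (sigma hF) M hdet, hM] at h

end hyp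

end Cfsg.Agent.Lib.Helper5.SemiCount
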