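import Mathlib
import Cfsg.Agent.Lib.Helper5.SemiCount.UField
import Cfsg.Agent.Lib.Helper5.SemiCount.UHyp

set_option autoImplicit false

/-!
# Every self-dual polynomial is the characteristic polynomial of a unitary matrix
-/

namespace Cfsg.Agent.Lib.Helper5.SemiCount

open Polynomial Module Matrix Cfsg
open Cfsg.Agent.Lib.Helper5.HermBridge

universe u

section peel
variable {F : Type u} [Field F] [Fintype F] {q : ℕ} (hF : Fintype.card F = q ^ 2)

theorem realGU_of_selfdual : ∀ (n : ℕ) (χ : F[X]), χ.natDegree = n → χ.Monic → χ.coeff 0 ≠ 0 →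
    star (sigma hF) χ = χ → RealGU q χ := by
  intro n
  induction n using Nat.strong_induction_on with
  | _ n ih =>
    intro χ hdeg hm h0 hst
    by_cases hu : IsUnit χ
    · rw [hm.eq_one_of_isUnit hu]
      exact realGU_one
    · obtain ⟨f, hfm, hfirr, hfdvd⟩ := Polynomial.exists_monic_irreducible_factor χ hu
      have hf0 : f.coeff 0 ≠ 0 := coeff_zero_ne_zero_of_dvd hfdvd h0
      have hfdeg : 0 < f.natDegree := hfirr.natDegree_pos
      by_cases hsf : star (sigma hF) f = f
      · obtain ⟨h, rfl⟩ := hfdvd
        have hmh : h.Monic := hfm.of_mul_monic_left hm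
        have hh0 : h.coeff 0 ≠ 0 := by
          rw [mul_coeff_zero] at h0
          exact right_ne_zero_of_mul h0
        have hsth : star (sigma hF) h = h := by
          rw [star_mul, hsf] at hst
          exact mul_left_cancel₀ hfm.ne_zero hst
        have hlt : h.natDegree < n := by
          rw [← hdeg, hfm.natDegree_mul hmh]
          omega
        exact realGU_mul hF (realGU_field hF hfirr hfm hf0 hsf) (ih _ hlt h rfl hmh hh0 hsth)
      · have hsm : (star (sigma hF) f).Monic := star_monic _ hf0
        have hsdvd : star (sigma hF) f ∣ χ := by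
          have := star_dvd (sigma hF) hfdvd
          rwa [hst] at this
        have hcop : IsCoprime f (star (sigma hF) f) := by
          rcases EuclideanDomain.dvd_or_coprime f (star (sigma hF) f) hfirr with h | h
          · exfalso
            apply hsf
            exact Polynomial.eq_of_monic_of_dvd_of_natDegree_le hfm hsm h
              (by rw [star_natDegree _ hf0])
          · exact h
        obtain ⟨h, rfl⟩ := hcop.mul_dvd hfdvd hsdvd
        have hm2 : (f * star (sigma hF) f).Monic := hfm.mul hsm
        have hmh : h.Monic := hm2.of_mul_monic_left hm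
        have hh0 : h.coeff 0 ≠ 0 := by
          rw [mul_coeff_zero] at h0
          exact right_ne_zero_of_mul h0
        have hsth : star (sigma hF) h = h := by
          rw [star_mul, star_mul, star_star _ (sigma_sigma hF) hfm hf0,
            mul_comm (star (sigma hF) f) f] at hst
          exact mul_left_cancel₀ hm2.ne_zero hst
        have hlt : h.natDegree < n := by
          rw [← hdeg, hm2.natDegree_mul hmh, hfm.natDegree_mul hsm]
          omega
        exact realGU_mul hF (realGU_hyp hF hfm hf0) (ih _ hlt h rfl hmh hh0 hsth)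

/-- a self-dual polynomial with constant term `(-1)^n` is the characteristic polynomial of an
element of `SU_n(q)` -/
theorem exists_SU_charpoly (n : ℕ) (χ : F[X]) (hdeg : χ.natDegree = n) (hm : χ.Monic)
    (h0 : χ.coeff 0 = (-1) ^ n) (hst : star (sigma hF) χ = χ) :
    ∃ A : ↥(Cfsg.SU n F q),
      ((A : Matrix.SpecialLinearGroup (Fin n) F) : Matrix (Fin n) (Fin n) F).charpoly = χ := by
  have h0' : χ.coeff 0 ≠ 0 := by
    rw [h0]; exact pow_ne_zero _ (neg_ne_zero.mpr one_ne_zero)
  obtain ⟨m, A, hA, hc⟩ := realGU_of_selfdual hF n χ hdeg hm h0' hst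
  have hmn : m = n := by
    rw [← hdeg, ← hc, Matrix.charpoly_natDegree_eq_dim, Fintype.card_fin]
  subst hmn
  have hdet : (A : Matrix (Fin m) (Fin m) F).det = 1 := by
    rw [Matrix.det_eq_sign_charpoly_coeff, hc, h0, Fintype.card_fin, ← mul_pow, neg_one_mul,
      neg_neg, one_pow]
  have hpres : ∀ u v, hermForm m F q ((A : Matrix (Fin m) (Fin m) F) *ᵥ u)
      ((A : Matrix (Fin m) (Fin m) F) *ᵥ v) = hermForm m F q u v := hA
  exact ⟨⟨⟨_, hdet⟩, hpres⟩, hc⟩

end peel

end Cfsg.Agent.Lib.Helper5.SemiCount
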