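import Mathlib
import Cfsg.Agent.Lib.Helper5.SemiCount.SpChar
import Cfsg.Agent.Lib.Helper5.SemiCount.UPeel
import Cfsg.Agent.Lib.Helper5.SemiConj.SU

set_option autoImplicit false

/-!
# Semisimple classes of the general unitary group
-/

namespace Cfsg.Agent.Lib.Helper5.SemiCount

open Polynomial Module Matrix Cfsg
open Cfsg.Agent.Lib.Helper5.HermBridge Cfsg.Agent.Lib.Helper5.SemiConj
open Cfsg.Agent.Lib.Helper5.HermBlock

universe u

section gu
variable {F : Type u} [Field F] [Fintype F] {q : ℕ} (hF : Fintype.card F = q ^ 2)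
  (p : ℕ) [Fact p.Prime] [CharP F p] (n : ℕ)

/-- the underlying matrix of an element of `GU` -/
abbrev guMat (A : ↥(Cfsg.GU n F q)) : Matrix (Fin n) (Fin n) F :=
  ((A : Matrix.GeneralLinearGroup (Fin n) F) : Matrix (Fin n) (Fin n) F)

omit [Fintype F] in
theorem guMat_mul (A B : ↥(Cfsg.GU n F q)) : guMat n (A * B) = guMat n A * guMat n B := rfl

omit [Fintype F] in
theorem guMat_one : guMat n (1 : ↥(Cfsg.GU n F q)) = 1 := rfl

omit [Fintype F] in
theorem guMat_pow (A : ↥(Cfsg.GU n F q)) (k : ℕ) : guMat n (A ^ k) = guMat n A ^ k := by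
  induction k with
  | zero => rw [pow_zero, pow_zero, guMat_one]
  | succ k ih => rw [pow_succ, pow_succ, guMat_mul, ih]

omit [Fintype F] in
theorem guMat_preserves (A : ↥(Cfsg.GU n F q)) (u v : Fin n → F) :
    hermForm n F q (guMat n A *ᵥ u) (guMat n A *ᵥ v) = hermForm n F q u v := A.2 u v

omit [Fintype F] in
theorem gu_isSemisimple (A : ↥(Cfsg.GU n F q)) (hA : (orderOf A).Coprime p) :
    Module.End.IsSemisimple (Matrix.toLin' (guMat n A)) := by
  apply isSemisimple_toLin'_of_pow_eq_one _ (orderOf A) (natCast_ne_zero_of_coprime p hA)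
  rw [← guMat_pow, pow_orderOf_eq_one, guMat_one]

/-- the data attached to a `p'`-element of the general unitary group -/
noncomputable def unitDataGU (A : ↥(Cfsg.GU n F q)) (hA : (orderOf A).Coprime p) :
    IsoData (sigma hF) (1 : F) (Fin n → F) where
  B := hermSesq hF n
  g := Matrix.toLin' (guMat n A)
  gi := Matrix.toLin' (guMat n A⁻¹)
  sig2 := sigma_sigma hF
  eps := one_ne_zero
  herm := fun x y => by rw [one_mul]; exact (hermSesq_isSymm hF n).eq x y
  alt := fun h => absurd h (sigma_ne_id hF)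
  nondeg := fun v h => (hermSesq_nondegenerate hF n).2 v h
  isom := fun x y => by
    rw [hermSesq_apply, hermSesq_apply, Matrix.toLin'_apply, Matrix.toLin'_apply]
    exact guMat_preserves n A y x
  gi_g := fun x => by
    rw [Matrix.toLin'_apply, Matrix.toLin'_apply, Matrix.mulVec_mulVec, ← guMat_mul,
      inv_mul_cancel, guMat_one, Matrix.one_mulVec]
  g_gi := fun x => by
    rw [Matrix.toLin'_apply, Matrix.toLin'_apply, Matrix.mulVec_mulVec, ← guMat_mul,
      mul_inv_cancel, guMat_one, Matrix.one_mulVec]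
  ss := gu_isSemisimple p n A hA
  ssi := gu_isSemisimple p n A⁻¹ (by rwa [orderOf_inv])

theorem unitDataGU_g (A : ↥(Cfsg.GU n F q)) (hA : (orderOf A).Coprime p) :
    (unitDataGU hF p n A hA).g = Matrix.toLin' (guMat n A) := rfl

theorem unitDataGU_B (A : ↥(Cfsg.GU n F q)) (hA : (orderOf A).Coprime p) :
    (unitDataGU hF p n A hA).B = hermSesq hF n := rfl

include hF in
theorem gu_conj_of_charpoly_eq (g h : ↥(Cfsg.GU n F q))
    (hg : (orderOf g).Coprime p) (hh : (orderOf h).Coprime p)
    (hc : (guMat n g).charpoly = (guMat n h).charpoly) : IsConj g h := by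
  have hchar : LinearMap.charpoly (unitDataGU hF p n g hg).g =
      LinearMap.charpoly (unitDataGU hF p n h hh).g := by
    rw [unitDataGU_g, unitDataGU_g, Matrix.charpoly_toLin', Matrix.charpoly_toLin', hc]
  obtain ⟨φ, hφB, hφg⟩ := exists_isometry (unitDataGU hF p n g hg) (unitDataGU hF p n h hh) hchar
  have hφB' : ∀ u v, hermForm n F q (φ u) (φ v) = hermForm n F q u v := by
    intro u v
    have := hφB v u
    rw [unitDataGU_B, unitDataGU_B, hermSesq_apply, hermSesq_apply] at this
    exact this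
  have hφg' : ∀ v, φ (guMat n g *ᵥ v) = guMat n h *ᵥ (φ v) := by
    intro v
    have := hφg v
    rw [unitDataGU_g, unitDataGU_g, Matrix.toLin'_apply, Matrix.toLin'_apply] at this
    exact this
  obtain ⟨A, hA⟩ := exists_GU_of_isometry n φ hφB'
  rw [isConj_iff]
  refine ⟨A, ?_⟩
  rw [mul_inv_eq_iff_eq_mul]
  apply Subtype.ext
  apply Units.ext
  show guMat n (A * g) = guMat n (h * A)
  rw [guMat_mul, guMat_mul]
  apply Matrix.toLin'.injective
  apply LinearMap.ext
  intro v
  rw [Matrix.toLin'_apply, Matrix.toLin'_apply, ← Matrix.mulVec_mulVec, ← Matrix.mulVec_mulVec,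
    hA, hA, hφg']

include hF in
theorem gu_charpoly_star (A : ↥(Cfsg.GU n F q)) :
    star (sigma hF) (guMat n A).charpoly = (guMat n A).charpoly := by
  have hT : (guMat n A)ᵀ * (guMat n A).map (sigma hF) = 1 :=
    (mem_GU_iff hF (A : Matrix.GeneralLinearGroup (Fin n) F)).mp A.2
  have hdet : (guMat n A).det ≠ 0 := by
    intro h0
    have := congrArg Matrix.det hT
    rw [Matrix.det_mul, Matrix.det_transpose, h0, zero_mul, Matrix.det_one] at this
    exact zero_ne_one this
  have hN : (guMat n A)⁻¹ = ((guMat n A).map (sigma hF))ᵀ := by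
    apply Matrix.inv_eq_left_inv
    have := congrArg Matrix.transpose hT
    rwa [Matrix.transpose_mul, Matrix.transpose_transpose, Matrix.transpose_one] at this
  have h := charpoly_inv_map_transpose (sigma hF) (guMat n A) hdet
  rw [hN, Matrix.transpose_map, Matrix.transpose_transpose,
    map_map_self (sigma hF) (sigma_sigma hF)] at h
  exact h.symm

omit [Fintype F] in
theorem gu_charpoly_conj (g h : ↥(Cfsg.GU n F q)) (hc : IsConj g h) :
    (guMat n g).charpoly = (guMat n h).charpoly := by
  obtain ⟨c, rfl⟩ := isConj_iff.mp hc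
  have h2 : guMat n c⁻¹ * guMat n c = 1 := by
    rw [← guMat_mul, inv_mul_cancel, guMat_one]
  rw [guMat_mul, guMat_mul, Matrix.charpoly_mul_comm, ← Matrix.mul_assoc, h2, Matrix.one_mul]

include hF in
/-- every self-dual polynomial of degree `n` is the characteristic polynomial of a `p'`-element
of `GU_n(q)` -/
theorem exists_gu_charpoly (χ : F[X]) (hdeg : χ.natDegree = n) (hm : χ.Monic)
    (h0 : χ.coeff 0 ≠ 0) (hst : star (sigma hF) χ = χ) :
    ∃ g : ↥(Cfsg.GU n F q), (orderOf g).Coprime p ∧ (guMat n g).charpoly = χ := by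
  classical
  obtain ⟨m, A, hA, hc⟩ := realGU_of_selfdual hF n χ hdeg hm h0 hst
  have hmn : m = n := by
    rw [← hdeg, ← hc, Matrix.charpoly_natDegree_eq_dim, Fintype.card_fin]
  subst hmn
  obtain ⟨h, hh, hch⟩ := exists_coprime_order_same_charpoly p
    ((Units.coeHom (Matrix (Fin m) (Fin m) F)).comp (Cfsg.GU m F q).subtype)
    (⟨A, hA⟩ : ↥(Cfsg.GU m F q)) (isOfFinOrder_of_finite _)
  refine ⟨h, hh, ?_⟩
  rw [← hc]
  exact hch

end gu

end Cfsg.Agent.Lib.Helper5.SemiCount
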