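import Mathlib
import Cfsg.Agent.Lib.Helper4.PrimeOrdGL3
import Cfsg.Agent.Lib.Helper5.SemiCount.Star

set_option autoImplicit false

/-!
# The duality involution on the irreducible factors of `X ^ r - 1`
-/

namespace Cfsg.Agent.Lib.Helper5.SemiCount

open Polynomial Cfsg.Agent.Lib.Helper4.PrimeOrd

section starhom
variable {F : Type*} [Field F] (σ : F →+* F)

theorem star_one : star σ (1 : F[X]) = 1 := by
  unfold star
  have h : (1 : F[X]).reverse = 1 := by
    rw [← C_1, reverse_C]
  rw [Polynomial.map_one, h, coeff_one_zero, map_one, inv_one, C_1, one_mul]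

/-- `star` as a monoid homomorphism -/
noncomputable def starHom : F[X] →* F[X] where
  toFun := star σ
  map_one' := star_one σ
  map_mul' := star_mul σ

theorem star_pow (f : F[X]) (k : ℕ) : star σ (f ^ k) = star σ f ^ k := map_pow (starHom σ) f k

theorem star_prod {ι : Type*} (s : Finset ι) (g : ι → F[X]) :
    star σ (∏ i ∈ s, g i) = ∏ i ∈ s, star σ (g i) := map_prod (starHom σ) g s

theorem star_X_sub_one : star σ (X - C 1 : F[X]) = X - C 1 := by
  have h0 : (X - C 1 : F[X]).coeff 0 = -1 := by simp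
  have hd : (X - C 1 : F[X]).natDegree = 1 := natDegree_X_sub_C 1
  have h0' : (X - C 1 : F[X]).coeff 0 ≠ 0 := by rw [h0]; exact neg_ne_zero.mpr one_ne_zero
  ext i
  rcases Nat.lt_or_ge 1 i with hi | hi
  · rw [coeff_eq_zero_of_natDegree_lt (by rw [star_natDegree σ h0', hd]; exact hi),
      coeff_eq_zero_of_natDegree_lt (by rw [hd]; exact hi)]
  · rw [star_coeff σ _ i (by rw [hd]; exact hi), hd, h0, map_neg, map_one, inv_neg, inv_one]
    interval_cases i
    · simp [coeff_one]
    · simp [coeff_one]

theorem star_irreducible (hσ2 : ∀ a, σ (σ a) = a) {f : F[X]} (hm : f.Monic) (hf0 : f.coeff 0 ≠ 0)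
    (hirr : Irreducible f) : Irreducible (star σ f) := by
  have hsm : (star σ f).Monic := star_monic σ hf0
  have hs0 : (star σ f).coeff 0 ≠ 0 := star_coeff_zero_ne_zero σ hm hf0
  have hnu : ¬ IsUnit (star σ f) := by
    intro hu
    have h1 := natDegree_eq_zero_of_isUnit hu
    rw [star_natDegree σ hf0] at h1
    exact hirr.natDegree_pos.ne' h1
  obtain ⟨g, hgm, hgirr, hgd⟩ := Polynomial.exists_monic_irreducible_factor (star σ f) hnu
  have hg0 : g.coeff 0 ≠ 0 := coeff_zero_ne_zero_of_dvd hgd hs0
  have h1 : star σ g ∣ f := by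
    have := star_dvd σ hgd
    rwa [star_star σ hσ2 hm hf0] at this
  have hsgm : (star σ g).Monic := star_monic σ hg0
  have h2 : star σ g = f := by
    rcases (hirr.dvd_iff.mp h1) with h | h
    · exfalso
      have h3 := natDegree_eq_zero_of_isUnit h
      rw [star_natDegree σ hg0] at h3
      exact hgirr.natDegree_pos.ne' h3
    · exact eq_of_monic_of_associated hsgm hm h.symm
  have h3 : g = star σ f := by
    rw [← h2, star_star σ hσ2 hgm hg0]
  rw [← h3]
  exact hgirr

end starhom

section family
variable {F : Type*} [Field F] [Fintype F] (σ : F →+* F) {r i t : ℕ} {f : Fin t → F[X]}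

omit [Fintype F] in
theorem star_X_pow_sub_one (hr : 0 < r) : star σ (X ^ r - 1 : F[X]) = X ^ r - 1 := by
  have hd : (X ^ r - 1 : F[X]).natDegree = r := natDegree_X_pow_sub_C (n := r) (r := (1 : F))
  have h0 : (X ^ r - 1 : F[X]).coeff 0 = -1 := by
    simp [hr.ne]
  have h0' : (X ^ r - 1 : F[X]).coeff 0 ≠ 0 := by rw [h0]; exact neg_ne_zero.mpr one_ne_zero
  ext j
  rcases Nat.lt_or_ge r j with hj | hj
  · rw [coeff_eq_zero_of_natDegree_lt (by rw [star_natDegree σ h0', hd]; exact hj),
      coeff_eq_zero_of_natDegree_lt (by rw [hd]; exact hj)]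
  · rw [star_coeff σ _ j (by rw [hd]; exact hj), hd, h0, map_neg, map_one, inv_neg, inv_one]
    simp only [coeff_sub, coeff_X_pow, coeff_one]
    by_cases hj0 : j = 0
    · subst hj0
      simp [hr.ne', hr.ne]
    · by_cases hjr : j = r
      · subst hjr
        simp [hj0, Ne.symm hj0]
      · have h1 : r - j ≠ r := by omega
        have h2 : r - j ≠ 0 := by omega
        simp [hj0, hjr, h1, h2]

theorem fam_coeff_zero_ne (H : FamHyp r i t f) (j : Fin t) : (f j).coeff 0 ≠ 0 := by
  have := eval_zero_fam_ne H (some j)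
  rwa [← coeff_zero_eq_eval_zero] at this

/-- the duality permutation of the factor family -/
theorem exists_dual_perm (hσ2 : ∀ a, σ (σ a) = a) (H : FamHyp r i t f) :
    ∃ π : Fin t → Fin t, Function.Involutive π ∧ ∀ j, star σ (f j) = f (π j) := by
  have key : ∀ j, ∃ j', star σ (f j) = f j' := by
    intro j
    have hf0 := fam_coeff_zero_ne H j
    have hirr := star_irreducible σ hσ2 (H.monic j) hf0 (H.irr j)
    have hd : star σ (f j) ∣ X ^ r - 1 := by
      have := star_dvd σ (H.dvd j)
      rwa [star_X_pow_sub_one σ H.rpos] at this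
    rcases H.cov _ hirr hd with h | ⟨j', hj'⟩
    · exfalso
      have h1 : star σ (f j) = X - C 1 :=
        eq_of_monic_of_associated (star_monic σ hf0) (monic_X_sub_C 1) h
      have h2 : f j = X - C 1 := by
        rw [← star_star σ hσ2 (H.monic j) hf0, h1, star_X_sub_one]
      exact H.ne1 j h2
    · exact ⟨j', eq_of_monic_of_associated (star_monic σ hf0) (H.monic j') hj'⟩
  choose π hπ using key
  refine ⟨π, ?_, hπ⟩
  intro j
  apply H.inj
  rw [← hπ (π j), ← hπ j, star_star σ hσ2 (H.monic j) (fam_coeff_zero_ne H j)]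

end family

end Cfsg.Agent.Lib.Helper5.SemiCount
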