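import Mathlib
import Cfsg.Agent.Lib.Helper5.SemiCount.Dual

set_option autoImplicit false

/-!
# Counting classes of elements of prime order in a classical group with a duality
-/

namespace Cfsg.Agent.Lib.Helper5.SemiCount

open Polynomial Matrix Cfsg.Agent.Lib.Helper4.PrimeOrd Cfsg.Agent.Lib.Helper4.SemiMod

section dualcount
variable {F : Type*} [Field F] [Fintype F] (σ : F →+* F) (p : ℕ) [Fact p.Prime] [CharP F p]
  {n r i t : ℕ} {f : Fin t → F[X]}

omit [Fintype F] in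
theorem star_Pc (π : Fin t → Fin t) (hπi : Function.Involutive π)
    (hπ : ∀ j, star σ (f j) = f (π j)) (n : ℕ) (c : Fin t → ℕ) :
    star σ (Pc n i t f c) = Pc n i t f (fun j => c (π j)) := by
  unfold Pc
  rw [star_mul, star_pow, star_X_sub_one, star_prod]
  have h1 : ∑ j, c (π j) = ∑ j, c j := Equiv.sum_comp hπi.toPerm c
  have h2 : ∏ j, f j ^ c (π j) = ∏ j, f (π j) ^ c j := by
    rw [← Equiv.prod_comp hπi.toPerm (fun j => f j ^ c (π j))]
    apply Finset.prod_congr rfl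
    intro j _
    show f (π j) ^ c (π (π j)) = f (π j) ^ c j
    rw [hπi j]
  rw [h1, h2]
  congr 1
  apply Finset.prod_congr rfl
  intro j _
  rw [star_pow, hπ]

/-- **The class count in a group with self-dual characteristic polynomials.** -/
theorem card_classes_dual {G : Type*} [Group G] (ρ : G →* GL (Fin n) F)
    (hρ : Function.Injective ρ) (H : FamHyp r i t f) (hr : r.Prime) (hrp : r ≠ p)
    (π : Fin t → Fin t)
    (hcp : ∀ g : G, g ^ r = 1 → ∃ c : Fin t → ℕ, i * ∑ j, c j ≤ n ∧ (∀ j, c (π j) = c j) ∧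
      ((ρ g : GL (Fin n) F) : Matrix (Fin n) (Fin n) F).charpoly = Pc n i t f c)
    (hconj : ∀ g h : G, (orderOf g).Coprime p → (orderOf h).Coprime p →
      ((ρ g : GL (Fin n) F) : Matrix (Fin n) (Fin n) F).charpoly =
        ((ρ h : GL (Fin n) F) : Matrix (Fin n) (Fin n) F).charpoly → IsConj g h)
    (hreal : ∀ c : Fin t → ℕ, i * ∑ j, c j ≤ n → (∀ j, c (π j) = c j) →
      ∃ g : G, (orderOf g).Coprime p ∧
        ((ρ g : GL (Fin n) F) : Matrix (Fin n) (Fin n) F).charpoly = Pc n i t f c) :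
    Nat.card {C : ConjClasses G // ∃ g : G, ConjClasses.mk g = C ∧ orderOf g = r} =
      Nat.card {c : Fin t → ℕ // ∑ j, c j ≤ n / i ∧ c ≠ 0 ∧ ∀ j, c (π j) = c j} := by
  classical
  have : Fact r.Prime := ⟨hr⟩
  have hord : ∀ g : G, orderOf (ρ g) = orderOf g := fun g => orderOf_injective ρ hρ g
  -- representatives
  have hex : ∀ c : Fin t → ℕ, ∃ g : G, i * ∑ j, c j ≤ n → (∀ j, c (π j) = c j) →
      (((ρ g : GL (Fin n) F) : Matrix (Fin n) (Fin n) F).charpoly = Pc n i t f c ∧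
        (orderOf g).Coprime p) := by
    intro c
    by_cases hc : i * ∑ j, c j ≤ n ∧ ∀ j, c (π j) = c j
    · obtain ⟨g, h1, h2⟩ := hreal c hc.1 hc.2
      exact ⟨g, fun _ _ => ⟨h2, h1⟩⟩
    · exact ⟨1, fun h h' => absurd ⟨h, h'⟩ hc⟩
  choose gsel hsel using hex
  have hpow : ∀ c : Fin t → ℕ, i * ∑ j, c j ≤ n → (∀ j, c (π j) = c j) → gsel c ^ r = 1 := by
    intro c hc hc'
    obtain ⟨h1, h2⟩ := hsel c hc hc'
    have := semisimple_of_gl p (ρ (gsel c)) (by rw [hord]; exact h2)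
    have h0 := aeval_eq_zero_of_semisimple ((ρ (gsel c) : GL (Fin n) F) : Matrix (Fin n) (Fin n) F)
      (X ^ r - 1) (by
      intro π' hπ' hd
      rw [h1] at hd
      exact dvd_pow_sub_one_of_dvd_Pc H c π' hπ' hd)
    simp only [map_sub, map_pow, aeval_X, map_one] at h0
    apply hρ
    rw [map_pow, map_one]
    apply Units.ext
    rw [Units.val_pow_eq_pow_val, Units.val_one]
    exact sub_eq_zero.1 h0
  have hone : (orderOf (1 : G)).Coprime p := by simp
  have hch1 : ((ρ (1 : G) : GL (Fin n) F) : Matrix (Fin n) (Fin n) F).charpoly = Pc n i t f 0 := by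
    rw [map_one, Pc_zero, Units.val_one, Matrix.charpoly_one, Fintype.card_fin, map_one]
  have hne : ∀ c : Fin t → ℕ, i * ∑ j, c j ≤ n → (∀ j, c (π j) = c j) → c ≠ 0 → gsel c ≠ 1 := by
    intro c hc hc' hc0 h1
    obtain ⟨h2, -⟩ := hsel c hc hc'
    rw [h1, hch1] at h2
    exact hc0 (Pc_injective H _ _ h2).symm
  have hile : ∀ c : Fin t → ℕ, ∑ j, c j ≤ n / i ↔ i * ∑ j, c j ≤ n := by
    intro c
    rw [Nat.le_div_iff_mul_le H.ipos, mul_comm]
  have hcoprime : ∀ g : G, g ^ r = 1 → (orderOf g).Coprime p := by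
    intro g hg
    apply Nat.Coprime.coprime_dvd_left (orderOf_dvd_of_pow_eq_one hg)
    exact (Nat.coprime_primes hr (Fact.out : p.Prime)).2 hrp
  have hcpconj : ∀ g h : G, IsConj g h →
      ((ρ g : GL (Fin n) F) : Matrix (Fin n) (Fin n) F).charpoly =
        ((ρ h : GL (Fin n) F) : Matrix (Fin n) (Fin n) F).charpoly := by
    intro g h hgh
    obtain ⟨u, hu⟩ := isConj_iff.1 hgh
    apply charpoly_eq_of_gl_conj (ρ u)
    rw [← map_inv, ← map_mul, ← map_mul, hu]
  let Φ : {c : Fin t → ℕ // ∑ j, c j ≤ n / i ∧ c ≠ 0 ∧ ∀ j, c (π j) = c j} →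
      {C : ConjClasses G // ∃ g : G, ConjClasses.mk g = C ∧ orderOf g = r} :=
    fun c => ⟨ConjClasses.mk (gsel c.1), gsel c.1, rfl,
      orderOf_eq_prime (hpow c.1 ((hile c.1).1 c.2.1) c.2.2.2)
        (hne c.1 ((hile c.1).1 c.2.1) c.2.2.2 c.2.2.1)⟩
  have hΦ : Function.Bijective Φ := by
    constructor
    · intro c c' h
      have h' := congrArg Subtype.val h
      simp only [Φ, ConjClasses.mk_eq_mk_iff_isConj] at h'
      have hcp' := hcpconj _ _ h'
      rw [(hsel c.1 ((hile c.1).1 c.2.1) c.2.2.2).1,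
        (hsel c'.1 ((hile c'.1).1 c'.2.1) c'.2.2.2).1] at hcp'
      exact Subtype.ext (Pc_injective H _ _ hcp')
    · rintro ⟨C, g, rfl, hg⟩
      have hgr : g ^ r = 1 := by rw [← hg]; exact pow_orderOf_eq_one g
      obtain ⟨c, hc, hcπ, hcpg⟩ := hcp g hgr
      have hgp := hcoprime g hgr
      have hc0 : c ≠ 0 := by
        rintro rfl
        have : IsConj g 1 := hconj g 1 hgp hone (by rw [hcpg, hch1])
        rw [isConj_one_left] at this
        rw [this, orderOf_one] at hg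
        exact hr.one_lt.ne hg
      refine ⟨⟨c, (hile c).2 hc, hc0, hcπ⟩, ?_⟩
      apply Subtype.ext
      simp only [Φ]
      rw [ConjClasses.mk_eq_mk_iff_isConj]
      exact hconj _ _ (hsel c hc hcπ).2 hgp (by rw [(hsel c hc hcπ).1, hcpg])
  exact (Nat.card_congr (Equiv.ofBijective Φ hΦ)).symm

end dualcount

end Cfsg.Agent.Lib.Helper5.SemiCount
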