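import Mathlib
import Cfsg.Agent.Lib.Helper5.SemiCount.Dual

set_option autoImplicit false

/-!
# Which irreducible factors of `X ^ r - 1` over a finite field are self-dual
-/

namespace Cfsg.Agent.Lib.Helper5.SemiCount

open Polynomial

section galois
variable {K : Type*} [Field K] [Fintype K] (p : ℕ) [Fact p.Prime] [CharP K p]
  (σ : K →+* K) {r w : ℕ} {f : K[X]}

theorem star_eq_self_iff (hσ2 : ∀ a, σ (σ a) = a) (hr : r.Prime) (k₀ : ℕ) (hw : w = p ^ k₀)
    (hσ : ∀ a, σ a = a ^ w) (hm : f.Monic) (hirr : Irreducible f) (hd : f ∣ X ^ r - 1)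
    (hne : f ≠ X - C 1) :
    star σ f = f ↔ ∃ k, r ∣ Fintype.card K ^ k + w := by
  classical
  have : Fact (Irreducible f) := ⟨hirr⟩
  have : Fact r.Prime := ⟨hr⟩
  have hne0 : f ≠ 0 := hm.ne_zero
  have : Module.Finite K (AdjoinRoot f) := (AdjoinRoot.powerBasis hne0).finite
  have : Finite (AdjoinRoot f) := Module.finite_of_finite K
  have : CharP (AdjoinRoot f) p :=
    charP_of_injective_algebraMap (algebraMap K (AdjoinRoot f)).injective p
  have : ExpChar (AdjoinRoot f) p := ExpChar.prime Fact.out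
  obtain ⟨ζ, hζdef⟩ : ∃ ζ : AdjoinRoot f, ζ = AdjoinRoot.root f := ⟨_, rfl⟩
  have hζf : aeval ζ f = 0 := by rw [hζdef, AdjoinRoot.aeval_eq, AdjoinRoot.mk_self]
  have hζr : ζ ^ r = 1 := by
    have h1 : aeval ζ (X ^ r - 1 : K[X]) = 0 := by
      obtain ⟨g, hg⟩ := hd
      rw [hg, map_mul, hζf, zero_mul]
    rw [map_sub, map_pow, aeval_X, map_one, sub_eq_zero] at h1
    exact h1
  have hζ1 : ζ ≠ 1 := by
    intro h
    have h1 : AdjoinRoot.mk f (X - C 1) = 0 := by
      rw [map_sub, AdjoinRoot.mk_X, AdjoinRoot.mk_C, map_one, ← hζdef, h, sub_self]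
    rw [AdjoinRoot.mk_eq_zero] at h1
    rcases (irreducible_X_sub_C (1 : K)).dvd_iff.mp h1 with h2 | h2
    · exact hirr.not_isUnit h2
    · exact hne (eq_of_monic_of_associated hm (monic_X_sub_C 1) h2.symm)
  have hord : orderOf ζ = r := orderOf_eq_prime hζr hζ1
  have hζ0 : ζ ≠ 0 := by
    intro h
    rw [h, zero_pow hr.ne_zero] at hζr
    exact zero_ne_one hζr
  obtain ⟨y, hydef⟩ : ∃ y : AdjoinRoot f, y = ζ ^ w := ⟨_, rfl⟩
  have hy0 : y ≠ 0 := by rw [hydef]; exact pow_ne_zero _ hζ0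
  have hf0 : f.coeff 0 ≠ 0 := by
    apply coeff_zero_ne_zero_of_dvd hd
    simp [hr.ne_zero, hr.ne_zero.symm]
  -- `y⁻¹` is a root of `star σ f`
  have hA : aeval y⁻¹ (star σ f) = 0 := by
    have h1 : eval₂ ((algebraMap K (AdjoinRoot f)).comp σ) y f = 0 := by
      have h2 := Polynomial.hom_eval₂ f (algebraMap K (AdjoinRoot f))
        (iterateFrobenius (AdjoinRoot f) p k₀) ζ
      have h3 : (iterateFrobenius (AdjoinRoot f) p k₀).comp (algebraMap K (AdjoinRoot f)) =
          (algebraMap K (AdjoinRoot f)).comp σ := by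
        ext a
        simp only [RingHom.comp_apply, iterateFrobenius_def, hσ, map_pow, hw]
      rw [h3] at h2
      simp only [iterateFrobenius_def] at h2
      rw [← hw, ← hydef] at h2
      rw [← h2, ← aeval_def, hζf, zero_pow]
      rw [hw]
      exact pow_ne_zero _ (Fact.out : p.Prime).ne_zero
    have h4 : eval₂ (algebraMap K (AdjoinRoot f)) y (f.map σ) = 0 := by
      rw [eval₂_map]; exact h1
    let _ : Invertible y := invertibleOfNonzero hy0
    have h5 := eval₂_reverse_mul_pow (algebraMap K (AdjoinRoot f)) y (f.map σ)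
    rw [h4] at h5
    have h6 : eval₂ (algebraMap K (AdjoinRoot f)) (⅟y) (f.map σ).reverse = 0 := by
      rcases mul_eq_zero.mp h5 with h | h
      · exact h
      · exact absurd h (pow_ne_zero _ hy0)
    rw [invOf_eq_inv] at h6
    rw [aeval_def, star, eval₂_mul, h6, mul_zero]
  -- Frobenius conjugates of `ζ` are roots of `f`
  have hB : ∀ k, aeval (ζ ^ (Fintype.card K ^ k)) f = 0 := by
    intro k
    have h1 := Polynomial.aeval_algHom_apply (FiniteField.frobeniusAlgHom K (AdjoinRoot f) ^ k) ζ f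
    rw [hζf, map_zero] at h1
    have h2 : (FiniteField.frobeniusAlgHom K (AdjoinRoot f) ^ k) ζ = ζ ^ (Fintype.card K ^ k) := by
      rw [AlgHom.coe_pow, FiniteField.coe_frobeniusAlgHom, pow_iterate]
    rwa [h2] at h1
  constructor
  · intro hst
    rw [hst] at hA
    have hA' : f.eval₂ (Algebra.ofId K (AdjoinRoot f)) y⁻¹ = 0 := hA
    obtain ⟨k, hk⟩ := (FiniteField.bijective_frobeniusAlgHom_pow K (AdjoinRoot f)).2
      (AdjoinRoot.liftAlgHom f (Algebra.ofId K (AdjoinRoot f)) y⁻¹ hA')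
    have h1 := congrArg (fun θ : AdjoinRoot f →ₐ[K] AdjoinRoot f => θ (AdjoinRoot.root f)) hk
    simp only [AdjoinRoot.liftAlgHom_root] at h1
    rw [AlgHom.coe_pow, FiniteField.coe_frobeniusAlgHom, pow_iterate, ← hζdef] at h1
    have h1' : ζ ^ (Fintype.card K ^ (k : ℕ)) = y⁻¹ := h1
    refine ⟨k, ?_⟩
    rw [← hord]
    apply orderOf_dvd_of_pow_eq_one
    rw [pow_add, h1', ← hydef, inv_mul_cancel₀ hy0]
  · rintro ⟨k, hk⟩
    rw [← hord, orderOf_dvd_iff_pow_eq_one, pow_add, ← hydef] at hk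
    have h1 : ζ ^ (Fintype.card K ^ k) = y⁻¹ := eq_inv_of_mul_eq_one_left hk
    have h2 : aeval y⁻¹ f = 0 := by rw [← h1]; exact hB k
    have hsm : (star σ f).Monic := star_monic σ hf0
    have hsirr : Irreducible (star σ f) := star_irreducible σ hσ2 hm hf0 hirr
    by_contra hne'
    have hcop : IsCoprime f (star σ f) := by
      rcases EuclideanDomain.dvd_or_coprime f (star σ f) hirr with h | h
      · exfalso
        apply hne'
        exact Polynomial.eq_of_monic_of_dvd_of_natDegree_le hm hsm h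
          (by rw [star_natDegree σ hf0])
      · exact h
    obtain ⟨u, v, huv⟩ := hcop
    have h3 := congrArg (aeval y⁻¹) huv
    rw [map_add, map_mul, map_mul, h2, hA, mul_zero, mul_zero, add_zero, map_one] at h3
    exact zero_ne_one h3

end galois

section nt
variable {r : ℕ} [Fact r.Prime]

theorem orderOf_pos_of_ne_zero {x : ZMod r} (hx : x ≠ 0) : 0 < orderOf x := by
  have hr : r.Prime := Fact.out
  rw [orderOf_pos_iff, isOfFinOrder_iff_pow_eq_one]
  exact ⟨r - 1, Nat.sub_pos_of_lt hr.one_lt, ZMod.pow_card_sub_one_eq_one hx⟩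

theorem pow_half_order_eq_neg_one {x : ZMod r} (hx : x ≠ 0) {b : ℕ} (hb : orderOf x = 2 * b) :
    x ^ b = -1 := by
  have hpos : 0 < orderOf x := orderOf_pos_of_ne_zero hx
  have h1 : x ^ b * x ^ b = 1 := by
    rw [← pow_add, ← two_mul, ← hb, pow_orderOf_eq_one]
  rcases mul_self_eq_one_iff.mp h1 with h | h
  · exfalso
    exact pow_ne_one_of_lt_orderOf (by omega) (by omega) h
  · exact h

theorem order_even_of_pow_eq_neg_one (hr2 : r ≠ 2) {x : ZMod r} (hx : x ≠ 0) {k : ℕ}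
    (hk : x ^ k = -1) :
    ∃ b, orderOf x = 2 * b ∧ b ∣ k ∧ ¬ 2 * b ∣ k := by
  have hr : r.Prime := Fact.out
  have : Fact (2 < r) := ⟨lt_of_le_of_ne hr.two_le (Ne.symm hr2)⟩
  have h1 : x ^ (2 * k) = 1 := by
    rw [mul_comm, pow_mul, hk, neg_one_sq]
  have h2 : orderOf x ∣ 2 * k := orderOf_dvd_of_pow_eq_one h1
  have h3 : ¬ orderOf x ∣ k := by
    intro h
    rw [orderOf_dvd_iff_pow_eq_one, hk] at h
    exact ZMod.neg_one_ne_one h
  rcases Nat.even_or_odd (orderOf x) with he | ho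
  · obtain ⟨b, hb⟩ := he
    have hb' : orderOf x = 2 * b := by rw [hb]; ring
    refine ⟨b, hb', ?_, ?_⟩
    · rw [hb'] at h2
      exact Nat.dvd_of_mul_dvd_mul_left (by norm_num : 0 < 2) h2
    · rw [← hb']; exact h3
  · exfalso
    apply h3
    exact Nat.Coprime.dvd_of_dvd_mul_left ho.coprime_two_right h2

theorem exists_dvd_pow_add_one_iff (hr2 : r ≠ 2) (q : ℕ) (hq : (q : ZMod r) ≠ 0) :
    (∃ k, r ∣ q ^ k + 1) ↔ Even (orderOf (q : ZMod r)) := by
  constructor
  · rintro ⟨k, hk⟩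
    rw [← ZMod.natCast_eq_zero_iff] at hk
    push_cast at hk
    obtain ⟨b, hb, -, -⟩ := order_even_of_pow_eq_neg_one hr2 hq (eq_neg_of_add_eq_zero_left hk)
    exact ⟨b, by rw [hb]; ring⟩
  · rintro ⟨b, hb⟩
    refine ⟨b, ?_⟩
    rw [← ZMod.natCast_eq_zero_iff]
    push_cast
    rw [pow_half_order_eq_neg_one hq (by rw [hb]; ring), neg_add_cancel]

theorem exists_dvd_sq_pow_add_self_iff (hr2 : r ≠ 2) (q : ℕ) (hq : (q : ZMod r) ≠ 0) :
    (∃ k, r ∣ (q ^ 2) ^ k + q) ↔ orderOf (q : ZMod r) % 4 = 2 := by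
  have hpos : 0 < orderOf (q : ZMod r) := orderOf_pos_of_ne_zero hq
  constructor
  · rintro ⟨k, hk⟩
    rw [← ZMod.natCast_eq_zero_iff] at hk
    push_cast at hk
    have h1 : (q : ZMod r) ^ (2 * k) = -(q : ZMod r) := by
      rw [pow_mul]; exact eq_neg_of_add_eq_zero_left hk
    have h2 : (q : ZMod r) ^ (2 * k + (orderOf (q : ZMod r) - 1)) = -1 := by
      rw [pow_add, h1, neg_mul, ← pow_succ', Nat.sub_add_cancel hpos, pow_orderOf_eq_one]
    obtain ⟨b, hb, hbm, -⟩ := order_even_of_pow_eq_neg_one hr2 hq h2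
    have hodd : Odd (2 * k + (orderOf (q : ZMod r) - 1)) := by
      rw [hb]
      refine ⟨k + b - 1, ?_⟩
      omega
    obtain ⟨c, hc⟩ := hodd.of_dvd_nat hbm
    omega
  · intro h4
    obtain ⟨c, hc⟩ : ∃ c, orderOf (q : ZMod r) = 2 * (2 * c + 1) :=
      ⟨orderOf (q : ZMod r) / 4, by omega⟩
    refine ⟨c + 1, ?_⟩
    rw [← ZMod.natCast_eq_zero_iff]
    push_cast
    have h1 := pow_half_order_eq_neg_one hq hc
    rw [← pow_mul, show 2 * (c + 1) = (2 * c + 1) + 1 by ring, pow_succ, h1]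
    ring

end nt

end Cfsg.Agent.Lib.Helper5.SemiCount
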