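import Mathlib
import Cfsg.Agent.Lib.Helper4.PrimeOrdGL

set_option autoImplicit false

/-!
# Counting exponent vectors invariant under an involution of the index set
-/

namespace Cfsg.Agent.Lib.Helper5.SemiCount

open Cfsg.Agent.Lib.Helper4.PrimeOrd

section fpf
variable {t : ℕ} (π : Fin t → Fin t)

theorem card_dual_id (t M : ℕ) :
    Nat.card {c : Fin t → ℕ // ∑ j, c j ≤ M ∧ c ≠ 0 ∧ ∀ j, c (id j) = c j} =
      (M + t).choose t - 1 := by
  rw [← card_sum_le_ne_zero t M]
  exact Nat.card_congr (Equiv.subtypeEquivRight (fun c =>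
    ⟨fun h => ⟨h.1, h.2.1⟩, fun h => ⟨h.1, h.2, fun _ => rfl⟩⟩))

variable (hπi : Function.Involutive π) (hfp : ∀ j, π j ≠ j)

include hπi hfp in
theorem not_lt_iff_lt (j : Fin t) : ¬ j < π j ↔ π j < π (π j) := by
  rw [hπi j]
  constructor
  · intro h
    exact lt_of_le_of_ne (not_lt.mp h) (hfp j)
  · intro h
    exact not_lt.mpr h.le

/-- the complement of the transversal is its image -/
noncomputable def complEquiv : {j : Fin t // j < π j} ≃ {j : Fin t // ¬ j < π j} where
  toFun a := ⟨π a.1, by rw [hπi a.1]; exact not_lt.mpr a.2.le⟩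
  invFun b := ⟨π b.1, (not_lt_iff_lt π hπi hfp b.1).mp b.2⟩
  left_inv a := Subtype.ext (hπi a.1)
  right_inv b := Subtype.ext (hπi b.1)

include hπi hfp in
theorem sum_eq_two_mul (c : Fin t → ℕ) (hc : ∀ j, c (π j) = c j) :
    ∑ j, c j = 2 * ∑ a : {j : Fin t // j < π j}, c a.1 := by
  rw [← Fintype.sum_subtype_add_sum_subtype (fun j => j < π j) c,
    ← Equiv.sum_comp (complEquiv π hπi hfp) (fun b : {j : Fin t // ¬ j < π j} => c b.1)]
  have : ∀ a : {j : Fin t // j < π j}, c ((complEquiv π hπi hfp a).1) = c a.1 :=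
    fun a => hc a.1
  simp only [this]
  ring

include hπi hfp in
theorem card_transversal : 2 * Fintype.card {j : Fin t // j < π j} = t := by
  have h := sum_eq_two_mul π hπi hfp (fun _ => 1) (fun _ => rfl)
  simp only [Finset.sum_const, Finset.card_univ, Fintype.card_fin, smul_eq_mul, mul_one] at h
  exact h.symm

/-- invariant exponent vectors correspond to exponent vectors on a transversal -/
noncomputable def transversalEquiv (M : ℕ) :
    {c : Fin t → ℕ // ∑ j, c j ≤ M ∧ c ≠ 0 ∧ ∀ j, c (π j) = c j} ≃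
    {d : {j : Fin t // j < π j} → ℕ // ∑ a, d a ≤ M / 2 ∧ d ≠ 0} where
  toFun c := ⟨fun a => c.1 a.1, by
    have h := sum_eq_two_mul π hπi hfp c.1 c.2.2.2
    have h1 := c.2.1
    show ∑ a : {j : Fin t // j < π j}, c.1 a.1 ≤ M / 2
    omega, by
    intro h0
    apply c.2.2.1
    funext j
    by_cases hj : j < π j
    · exact congrFun h0 ⟨j, hj⟩
    · have := congrFun h0 ⟨π j, (not_lt_iff_lt π hπi hfp j).mp hj⟩
      rw [← c.2.2.2 j]
      exact this⟩
  invFun d := ⟨fun j => if h : j < π j then d.1 ⟨j, h⟩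
      else d.1 ⟨π j, (not_lt_iff_lt π hπi hfp j).mp h⟩, by
    have hinv : ∀ j, (fun j => if h : j < π j then d.1 ⟨j, h⟩
      else d.1 ⟨π j, (not_lt_iff_lt π hπi hfp j).mp h⟩) (π j) =
      (fun j => if h : j < π j then d.1 ⟨j, h⟩
      else d.1 ⟨π j, (not_lt_iff_lt π hπi hfp j).mp h⟩) j := by
      intro j
      by_cases hj : j < π j
      · have hj' : ¬ π j < π (π j) := by rw [hπi j]; exact not_lt.mpr hj.le
        simp only [dif_pos hj, dif_neg hj']
        exact congrArg d.1 (Subtype.ext (hπi j))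
      · have hj' : π j < π (π j) := (not_lt_iff_lt π hπi hfp j).mp hj
        simp only [dif_neg hj, dif_pos hj']
    refine ⟨?_, ?_, hinv⟩
    · rw [sum_eq_two_mul π hπi hfp _ hinv]
      have h2 : ∑ a : {j : Fin t // j < π j}, (if h : a.1 < π a.1 then d.1 ⟨a.1, h⟩
          else d.1 ⟨π a.1, (not_lt_iff_lt π hπi hfp a.1).mp h⟩) = ∑ a, d.1 a := by
        apply Finset.sum_congr rfl
        intro a _
        rw [dif_pos a.2]
      rw [h2]
      have := d.2.1
      omega
    · intro h0
      apply d.2.2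
      funext a
      have := congrFun h0 a.1
      simp only [dif_pos a.2] at this
      exact this⟩
  left_inv c := by
    apply Subtype.ext
    funext j
    by_cases hj : j < π j
    · simp only [dif_pos hj]
    · simp only [dif_neg hj]
      exact c.2.2.2 j
  right_inv d := by
    apply Subtype.ext
    funext a
    simp only [dif_pos a.2]

include hπi hfp in
theorem card_dual_fpf (M : ℕ) :
    Nat.card {c : Fin t → ℕ // ∑ j, c j ≤ M ∧ c ≠ 0 ∧ ∀ j, c (π j) = c j} =
      (M / 2 + t / 2).choose (t / 2) - 1 := by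
  classical
  have hk := card_transversal π hπi hfp
  have hk' : Fintype.card {j : Fin t // j < π j} = t / 2 := by omega
  let e : {j : Fin t // j < π j} ≃ Fin (t / 2) := Fintype.equivFinOfCardEq hk'
  rw [Nat.card_congr (transversalEquiv π hπi hfp M), ← card_sum_le_ne_zero (t / 2) (M / 2)]
  refine Nat.card_congr (Equiv.subtypeEquiv (Equiv.arrowCongr e (Equiv.refl ℕ)) ?_)
  intro d
  have hs : ∑ b, (Equiv.arrowCongr e (Equiv.refl ℕ) d) b = ∑ a, d a := by
    rw [← Equiv.sum_comp e]
    apply Finset.sum_congr rfl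
    intro a _
    simp [Equiv.arrowCongr]
  rw [hs]
  have h0 : (Equiv.arrowCongr e (Equiv.refl ℕ) d = 0) ↔ d = 0 := by
    constructor
    · intro h
      have := (Equiv.arrowCongr e (Equiv.refl ℕ)).injective (a₁ := d) (a₂ := 0) (by
        rw [h]
        funext b
        simp [Equiv.arrowCongr])
      exact this
    · intro h
      rw [h]
      funext b
      simp [Equiv.arrowCongr]
  rw [Ne, Ne, h0]

end fpf

end Cfsg.Agent.Lib.Helper5.SemiCount
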