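import Mathlib
import Cfsg.Agent.Lib.Helper5.SemiCount.GUClass
import Cfsg.Agent.Lib.Helper5.SemiCount.DualCount
import Cfsg.Agent.Lib.Helper5.SemiCount.DualType
import Cfsg.Agent.Lib.Helper5.SemiCount.FpfCount

set_option autoImplicit false

/-!
# Classes of elements of odd prime order in `GU_n(q)`
-/

namespace Cfsg.Agent.Lib.Helper5.SemiCount

open Polynomial Module Matrix Cfsg
open Cfsg.Agent.Lib.Helper5.HermBridge
open Cfsg.Agent.Lib.Helper4.PrimeOrd

universe u

section guprime
variable {K : Type u} [Field K] [Fintype K] {p q n r i b s : ℕ} [Fact p.Prime] [CharP K p]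

omit [Fact (Nat.Prime p)] [CharP K p] in
theorem charpoly_star_of_pc (σ : K →+* K) {e t : ℕ} {f : Fin t → K[X]} (H : FamHyp r e t f)
    (π : Fin t → Fin t) (hπi : Function.Involutive π) (hπ : ∀ j, star σ (f j) = f (π j))
    (g : GL (Fin n) K) (hg : g ^ r = 1)
    (hdual : star σ (g : Matrix (Fin n) (Fin n) K).charpoly =
      (g : Matrix (Fin n) (Fin n) K).charpoly) :
    ∃ c : Fin t → ℕ, e * ∑ j, c j ≤ n ∧ (∀ j, c (π j) = c j) ∧
      (g : Matrix (Fin n) (Fin n) K).charpoly = Pc n e t f c := by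
  obtain ⟨c, hc, hcp⟩ := charpoly_of_pow_eq_one H g hg
  refine ⟨c, hc, ?_, hcp⟩
  rw [hcp, star_Pc σ π hπi hπ] at hdual
  have := Pc_injective H _ _ hdual
  intro j
  exact congrFun this j

theorem q_eq_prime_pow (hK : Fintype.card K = q ^ 2) : ∃ k₀, q = p ^ k₀ := by
  obtain ⟨m, -, hm⟩ := FiniteField.card K p
  have h1 : q ∣ p ^ (m : ℕ) := by
    rw [← hm, hK]
    exact dvd_pow_self q two_ne_zero
  obtain ⟨k, -, hk⟩ := (Nat.dvd_prime_pow (Fact.out : p.Prime)).mp h1
  exact ⟨k, hk⟩

theorem card_gu_prime_order_classes (hK : Fintype.card K = q ^ 2) (hr : r.Prime) (hr2 : r ≠ 2)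
    (hrp : r ≠ p) (hi : i = orderOf (q : ZMod r)) (hb : b = if Odd i then i else i / 2)
    (hs : s * b = r - 1) :
    Nat.card {C : ConjClasses ↥(Cfsg.GU n K q) //
      ∃ g : ↥(Cfsg.GU n K q), ConjClasses.mk g = C ∧ orderOf g = r} =
      if i % 4 = 2 then Nat.choose (2 * n / i + s) s - 1
      else Nat.choose (n / (2 * b) + s / 2) (s / 2) - 1 := by
  classical
  have : Fact r.Prime := ⟨hr⟩
  have hp : p.Prime := Fact.out
  obtain ⟨k₀, hq⟩ := q_eq_prime_pow (p := p) hK
  have hqr : (q : ZMod r) ≠ 0 := by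
    rw [Ne, ZMod.natCast_eq_zero_iff, hq]
    intro h
    exact hrp ((Nat.prime_dvd_prime_iff_eq hr hp).mp (hr.dvd_of_dvd_pow h))
  have hipos : 0 < i := by rw [hi]; exact orderOf_pos_of_ne_zero hqr
  -- the order of `q ^ 2`
  have hb' : b = orderOf ((Fintype.card K : ℕ) : ZMod r) := by
    rw [hK, Nat.cast_pow, orderOf_pow' _ two_ne_zero, ← hi, hb]
    rcases Nat.even_or_odd i with he | ho
    · rw [if_neg (Nat.not_odd_iff_even.mpr he)]
      have : i.gcd 2 = 2 := Nat.gcd_eq_right (even_iff_two_dvd.mp he)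
      rw [this]
    · rw [if_pos ho]
      have : i.gcd 2 = 1 := ho.coprime_two_right
      rw [this, Nat.div_one]
  obtain ⟨f, H⟩ := exists_family (F := K) p r b s hr hrp hb' hs
  obtain ⟨π, hπi, hπ⟩ := exists_dual_perm (sigma hK) (sigma_sigma hK) H
  have hmain := card_classes_dual (F := K) p (n := n) (G := ↥(Cfsg.GU n K q))
    (Cfsg.GU n K q).subtype (Subgroup.subtype_injective _) H hr hrp π
    (fun g hg => charpoly_star_of_pc (sigma hK) H π hπi hπ _
      (by rw [← map_pow, hg, map_one]) (gu_charpoly_star hK n g))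
    (fun g h hg hh hc => gu_conj_of_charpoly_eq hK p n g h hg hh hc)
    (fun c hc hcπ => exists_gu_charpoly hK p n (Pc n b s f c) (Pc_natDegree H c hc)
      (Pc_monic H c) (Pc_coeff_zero H c) (by
        rw [star_Pc (sigma hK) π hπi hπ]
        congr 1
        funext j
        exact hcπ j))
  rw [hmain]
  -- the type of the duality
  have htype : ∀ j, star (sigma hK) (f j) = f j ↔ i % 4 = 2 := by
    intro j
    rw [star_eq_self_iff p (sigma hK) (sigma_sigma hK) hr k₀ hq (fun a => sigma_apply hK a)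
      (H.monic j) (H.irr j) (H.dvd j) (H.ne1 j), hK, hi]
    exact exists_dvd_sq_pow_add_self_iff hr2 q hqr
  by_cases h4 : i % 4 = 2
  · rw [if_pos h4]
    have hπid : π = id := by
      funext j
      apply H.inj
      rw [← hπ j]
      exact (htype j).mpr h4
    have hbi : b = i / 2 := by
      rw [hb, if_neg]
      rw [Nat.not_odd_iff_even, Nat.even_iff]
      omega
    have hdiv : n / b = 2 * n / i := by
      have hi2 : i = 2 * b := by omega
      rw [hi2, Nat.mul_div_mul_left _ _ (by norm_num : 0 < 2)]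
    rw [hπid, card_dual_id, hdiv]
  · rw [if_neg h4]
    have hfp : ∀ j, π j ≠ j := by
      intro j hj
      apply h4
      rw [← htype j, hπ j, hj]
    rw [card_dual_fpf π hπi hfp, Nat.div_div_eq_div_mul, mul_comm b 2]

end guprime

end Cfsg.Agent.Lib.Helper5.SemiCount
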