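import Mathlib
import Cfsg.Agent.Lib.Helper5.SemiConj.Gram

set_option autoImplicit false

/-!
# The characteristic polynomial of a cyclic endomorphism
-/

namespace Cfsg.Agent.Lib.Helper5.SemiCount

open Polynomial Module Cfsg.Agent.Lib.Helper5.SemiConj

section cyclic
variable {F : Type*} [Field F] {V : Type*} [AddCommGroup V] [Module F V] [FiniteDimensional F V]

theorem finrank_le_natDegree_minpoly_of_cyclic (g : End F V) (v : V)
    (hv : LinearMap.range (evalAt g v) = ⊤) : finrank F V ≤ (minpoly F g).natDegree := by
  have hint : IsIntegral F g := Algebra.IsIntegral.isIntegral g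
  have hm : (minpoly F g).Monic := minpoly.monic hint
  let θ : degreeLT F (minpoly F g).natDegree →ₗ[F] V :=
    (evalAt g v).comp (degreeLT F (minpoly F g).natDegree).subtype
  have hsurj : Function.Surjective θ := by
    intro w
    have hw : w ∈ LinearMap.range (evalAt g v) := by rw [hv]; trivial
    obtain ⟨a, rfl⟩ := hw
    have hmem : a %ₘ minpoly F g ∈ degreeLT F (minpoly F g).natDegree := by
      rw [mem_degreeLT]
      have h1 := degree_modByMonic_lt a hm
      rwa [degree_eq_natDegree hm.ne_zero] at h1
    refine ⟨⟨_, hmem⟩, ?_⟩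
    show aeval g (a %ₘ minpoly F g) v = aeval g a v
    conv_rhs => rw [← modByMonic_add_div a (minpoly F g)]
    rw [map_add, map_mul, minpoly.aeval, zero_mul, add_zero]
  have h1 := LinearMap.finrank_le_finrank_of_surjective hsurj
  have h2 : finrank F (degreeLT F (minpoly F g).natDegree) = (minpoly F g).natDegree := by
    rw [(degreeLTEquiv F (minpoly F g).natDegree).finrank_eq, Module.finrank_fin_fun]
  omega

theorem charpoly_eq_of_cyclic (g : End F V) (P : F[X]) (hP : P.Monic)
    (hdeg : P.natDegree = finrank F V) (h0 : aeval g P = 0) (v : V)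
    (hv : LinearMap.range (evalAt g v) = ⊤) : LinearMap.charpoly g = P := by
  have hint : IsIntegral F g := Algebra.IsIntegral.isIntegral g
  have hm : (minpoly F g).Monic := minpoly.monic hint
  have hd := finrank_le_natDegree_minpoly_of_cyclic g v hv
  have h1 : P = minpoly F g :=
    Polynomial.eq_of_monic_of_dvd_of_natDegree_le hm hP (minpoly.dvd F g h0) (by omega)
  have h2 : LinearMap.charpoly g = minpoly F g :=
    Polynomial.eq_of_monic_of_dvd_of_natDegree_le hm (LinearMap.charpoly_monic g)
      (LinearMap.minpoly_dvd_charpoly g) (by rw [LinearMap.charpoly_natDegree]; exact hd)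
  rw [h2, h1]

end cyclic

end Cfsg.Agent.Lib.Helper5.SemiCount
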