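import Mathlib

set_option autoImplicit false

/-!
# Palindromic polynomials of even degree as `X^n ψ(X + 1/X)`
-/

namespace Cfsg.Agent.Lib.Helper5.SemiCount

open Polynomial

section pal
variable {F : Type*} [Field F]

/-- `∑_{j ≤ n} d_j X^(n-j) (X²+1)^j`, i.e. `X^n ψ(X + 1/X)` for `ψ = ∑ d_j Y^j` -/
noncomputable def palSum (n : ℕ) (d : ℕ → F) : F[X] :=
  ∑ j ∈ Finset.range (n + 1), C (d j) * X ^ (n - j) * (X ^ 2 + 1) ^ j

theorem palSum_succ (n : ℕ) (d : ℕ → F) :
    palSum (n + 1) d = C (d (n + 1)) * (X ^ 2 + 1) ^ (n + 1) + X * palSum n d := by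
  rw [palSum, Finset.sum_range_succ, palSum, Finset.mul_sum, add_comm]
  congr 1
  · rw [Nat.sub_self, pow_zero, mul_one]
  · apply Finset.sum_congr rfl
    intro j hj
    have hj' : j ≤ n := Nat.lt_succ_iff.mp (Finset.mem_range.mp hj)
    rw [show n + 1 - j = (n - j) + 1 by omega, pow_succ]
    ring

theorem palSum_zero (d : ℕ → F) : palSum 0 d = C (d 0) := by
  simp [palSum]

theorem coeff_zero_sq_add_one_pow (m : ℕ) : ((X ^ 2 + 1 : F[X]) ^ m).coeff 0 = 1 := by
  rw [Polynomial.coeff_zero_eq_eval_zero]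
  simp

theorem palSum_coeff_zero_succ (n : ℕ) (d : ℕ → F) : (palSum (n + 1) d).coeff 0 = d (n + 1) := by
  rw [palSum_succ, coeff_add, coeff_C_mul, coeff_zero_sq_add_one_pow, mul_one, mul_comm,
    coeff_mul_X_zero, add_zero]

/-- the coefficients are determined by the polynomial -/
theorem palSum_eq_zero : ∀ (n : ℕ) (d : ℕ → F), palSum n d = 0 → ∀ j ≤ n, d j = 0 := by
  intro n
  induction n with
  | zero =>
    intro d h j hj
    rw [palSum_zero] at h
    have : j = 0 := by omega
    rw [this]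
    exact C_eq_zero.mp h
  | succ n ih =>
    intro d h j hj
    have h0 : d (n + 1) = 0 := by
      rw [← palSum_coeff_zero_succ n d, h, coeff_zero]
    rw [palSum_succ, h0, C_0, zero_mul, zero_add] at h
    rcases Nat.lt_or_ge j (n + 1) with hlt | hge
    · have h1 : palSum n d = 0 := by
        rcases mul_eq_zero.mp h with h2 | h2
        · exact absurd h2 X_ne_zero
        · exact h2
      exact ih d h1 j (by omega)
    · have : j = n + 1 := by omega
      rw [this, h0]

theorem palSum_sub (n : ℕ) (d d' : ℕ → F) :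
    palSum n d - palSum n d' = palSum n (fun j => d j - d' j) := by
  rw [palSum, palSum, palSum, ← Finset.sum_sub_distrib]
  apply Finset.sum_congr rfl
  intro j _
  rw [C_sub]
  ring

theorem palSum_injective (n : ℕ) (d d' : ℕ → F) (h : palSum n d = palSum n d') :
    ∀ j ≤ n, d j = d' j := by
  intro j hj
  have h1 : palSum n (fun j => d j - d' j) = 0 := by
    rw [← palSum_sub, h, sub_self]
  exact sub_eq_zero.mp (palSum_eq_zero n _ h1 j hj)

theorem reflect_sq_add_one_pow (m : ℕ) :
    reflect (2 * m) ((X ^ 2 + 1 : F[X]) ^ m) = (X ^ 2 + 1) ^ m := by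
  have h2 : reflect 2 (X ^ 2 + 1 : F[X]) = X ^ 2 + 1 := by
    rw [reflect_add, reflect_monomial, reflect_one, revAt_le le_rfl, Nat.sub_self, pow_zero,
      add_comm]
  have hdeg : ∀ m : ℕ, ((X ^ 2 + 1 : F[X]) ^ m).natDegree ≤ 2 * m := by
    intro m
    refine (natDegree_pow_le).trans ?_
    have : (X ^ 2 + 1 : F[X]).natDegree ≤ 2 := by
      refine (natDegree_add_le _ _).trans ?_
      simp
    calc m * (X ^ 2 + 1 : F[X]).natDegree ≤ m * 2 := Nat.mul_le_mul_left m this
      _ = 2 * m := by ring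
  induction m with
  | zero => simp
  | succ m ih =>
    have h3 : (X ^ 2 + 1 : F[X]).natDegree ≤ 2 := by
      refine (natDegree_add_le _ _).trans ?_
      simp
    rw [pow_succ, show 2 * (m + 1) = 2 * m + 2 by ring, reflect_mul _ _ (hdeg m) h3, ih, h2]

theorem coeff_sq_add_one_pow_symm (m i : ℕ) (hi : i ≤ 2 * m) :
    ((X ^ 2 + 1 : F[X]) ^ m).coeff i = ((X ^ 2 + 1 : F[X]) ^ m).coeff (2 * m - i) := by
  conv_lhs => rw [← reflect_sq_add_one_pow m, coeff_reflect, revAt_le hi]

theorem coeff_top_sq_add_one_pow (m : ℕ) : ((X ^ 2 + 1 : F[X]) ^ m).coeff (2 * m) = 1 := by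
  rw [coeff_sq_add_one_pow_symm m (2 * m) le_rfl, Nat.sub_self, coeff_zero_sq_add_one_pow]

/-- a palindromic polynomial of degree at most `2n` is a `palSum` -/
theorem exists_palSum : ∀ (n : ℕ) (p : F[X]), p.natDegree ≤ 2 * n →
    (∀ i ≤ 2 * n, p.coeff i = p.coeff (2 * n - i)) → ∃ d : ℕ → F, p = palSum n d := by
  intro n
  induction n with
  | zero =>
    intro p hdeg _
    refine ⟨fun _ => p.coeff 0, ?_⟩
    rw [palSum_zero]
    exact eq_C_of_natDegree_le_zero (by simpa using hdeg)
  | succ n ih =>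
    intro p hdeg hsym
    obtain ⟨a, ha⟩ : ∃ a, a = p.coeff 0 := ⟨_, rfl⟩
    obtain ⟨p', hp'⟩ : ∃ p', p' = p - C a * (X ^ 2 + 1) ^ (n + 1) := ⟨_, rfl⟩
    have hsym' : ∀ i ≤ 2 * (n + 1), p'.coeff i = p'.coeff (2 * (n + 1) - i) := by
      intro i hi
      rw [hp', coeff_sub, coeff_sub, coeff_C_mul, coeff_C_mul, hsym i hi,
        coeff_sq_add_one_pow_symm (n + 1) i hi]
    have h0 : p'.coeff 0 = 0 := by
      rw [hp', coeff_sub, coeff_C_mul, coeff_zero_sq_add_one_pow, mul_one, ha, sub_self]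
    have htop : p'.coeff (2 * (n + 1)) = 0 := by
      rw [hsym' _ le_rfl, Nat.sub_self, h0]
    have hdeg' : p'.natDegree ≤ 2 * (n + 1) := by
      rw [hp']
      refine (natDegree_sub_le _ _).trans (max_le hdeg ?_)
      refine (natDegree_C_mul_le _ _).trans ?_
      refine (natDegree_pow_le).trans ?_
      have : (X ^ 2 + 1 : F[X]).natDegree ≤ 2 := by
        refine (natDegree_add_le _ _).trans ?_
        simp
      calc (n + 1) * (X ^ 2 + 1 : F[X]).natDegree ≤ (n + 1) * 2 := Nat.mul_le_mul_left _ this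
        _ = 2 * (n + 1) := by ring
    obtain ⟨p'', hp''⟩ : ∃ p'', p' = X * p'' := by
      have : X ∣ p' := X_dvd_iff.mpr h0
      exact this
    have hc : ∀ i, p''.coeff i = p'.coeff (i + 1) := by
      intro i
      rw [hp'', mul_comm, coeff_mul_X]
    have hdeg'' : p''.natDegree ≤ 2 * n := by
      rw [natDegree_le_iff_coeff_eq_zero]
      intro i hi
      rw [hc]
      rcases Nat.lt_or_ge (2 * (n + 1)) (i + 1) with h | h
      · exact coeff_eq_zero_of_natDegree_lt (lt_of_le_of_lt hdeg' h)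
      · have : i + 1 = 2 * (n + 1) := by omega
        rw [this, htop]
    have hsym'' : ∀ i ≤ 2 * n, p''.coeff i = p''.coeff (2 * n - i) := by
      intro i hi
      rw [hc, hc, hsym' (i + 1) (by omega)]
      congr 1
      omega
    obtain ⟨d, hd⟩ := ih p'' hdeg'' hsym''
    refine ⟨fun j => if j = n + 1 then a else d j, ?_⟩
    rw [palSum_succ, if_pos rfl]
    have h1 : palSum n (fun j => if j = n + 1 then a else d j) = palSum n d := by
      rw [palSum, palSum]
      apply Finset.sum_congr rfl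
      intro j hj
      have : j ≠ n + 1 := by
        have := Finset.mem_range.mp hj
        omega
      rw [if_neg this]
    rw [h1, ← hd, ← hp'', hp']
    ring

theorem palSum_natDegree_le (n : ℕ) (d : ℕ → F) : (palSum n d).natDegree ≤ 2 * n := by
  rw [palSum]
  refine natDegree_sum_le_of_forall_le _ _ ?_
  intro j hj
  have hj' : j ≤ n := Nat.lt_succ_iff.mp (Finset.mem_range.mp hj)
  refine (natDegree_mul_le).trans ?_
  have h1 : (C (d j) * X ^ (n - j) : F[X]).natDegree ≤ n - j := natDegree_C_mul_X_pow_le _ _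
  have h2 : ((X ^ 2 + 1 : F[X]) ^ j).natDegree ≤ 2 * j := by
    refine (natDegree_pow_le).trans ?_
    have : (X ^ 2 + 1 : F[X]).natDegree ≤ 2 := by
      refine (natDegree_add_le _ _).trans ?_
      simp
    calc j * (X ^ 2 + 1 : F[X]).natDegree ≤ j * 2 := Nat.mul_le_mul_left _ this
      _ = 2 * j := by ring
  omega

/-- the top coefficient of a `palSum` -/
theorem palSum_coeff_top (n : ℕ) (d : ℕ → F) : (palSum n d).coeff (2 * n) = d n := by
  induction n generalizing d with
  | zero => rw [palSum_zero]; simp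
  | succ n ih =>
    rw [palSum_succ, coeff_add, coeff_C_mul, coeff_top_sq_add_one_pow, mul_one,
      show 2 * (n + 1) = (2 * n + 1) + 1 by ring, mul_comm X, coeff_mul_X]
    have hdeg := palSum_natDegree_le n d
    rw [coeff_eq_zero_of_natDegree_lt (by omega), add_zero]

theorem palSum_monic (n : ℕ) (d : ℕ → F) (hd : d n = 1) : (palSum n d).Monic :=
  Polynomial.monic_of_natDegree_le_of_coeff_eq_one (2 * n) (palSum_natDegree_le n d)
    (by rw [palSum_coeff_top, hd])

theorem palSum_natDegree (n : ℕ) (d : ℕ → F) (hd : d n = 1) : (palSum n d).natDegree = 2 * n :=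
  natDegree_eq_of_le_of_coeff_ne_zero (palSum_natDegree_le n d)
    (by rw [palSum_coeff_top, hd]; exact one_ne_zero)

end pal

end Cfsg.Agent.Lib.Helper5.SemiCount
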