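import Mathlib
import Cfsg.Agent.Lib.Helper5.SemiCount.Cyclic
import Cfsg.Agent.Lib.Helper5.SemiCount.Pal

set_option autoImplicit false

/-!
# A symplectic "companion" isometry with characteristic polynomial `X^n ψ(X + 1/X)`
-/

namespace Cfsg.Agent.Lib.Helper5.SemiCount

open Polynomial Module Cfsg.Agent.Lib.Helper5.SemiConj

section comp
variable {F : Type*} [Field F] (ψ : F[X]) (hψ : ψ.Monic)

/-- the functional "coefficient of `X^(n-1)`" on `F[X]/(ψ)` -/
noncomputable def topCoeff : AdjoinRoot ψ →ₗ[F] F :=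
  (Polynomial.lcoeff F (ψ.natDegree - 1)).comp (AdjoinRoot.modByMonicHom hψ)

theorem topCoeff_mk (a : F[X]) :
    topCoeff ψ hψ (AdjoinRoot.mk ψ a) = (a %ₘ ψ).coeff (ψ.natDegree - 1) := by
  rw [topCoeff, LinearMap.comp_apply, AdjoinRoot.modByMonicHom_mk]
  rfl

include hψ in
/-- the form `(a, b) ↦ topCoeff (a b)` is nondegenerate -/
theorem topCoeff_nondeg (a : AdjoinRoot ψ) (h : ∀ b, topCoeff ψ hψ (a * b) = 0) : a = 0 := by
  by_contra ha
  obtain ⟨r₀, rfl⟩ := AdjoinRoot.mk_surjective a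
  obtain ⟨r, hr⟩ : ∃ r, r = r₀ %ₘ ψ := ⟨_, rfl⟩
  have hmk : AdjoinRoot.mk ψ r₀ = AdjoinRoot.mk ψ r := by
    rw [AdjoinRoot.mk_eq_mk, hr]
    have := Polynomial.modByMonic_add_div r₀ ψ
    exact ⟨r₀ /ₘ ψ, by linear_combination this.symm⟩
  rw [hmk] at h ha
  have hr0 : r ≠ 0 := by
    rintro rfl
    exact ha (map_zero _)
  have hψ1 : ψ ≠ 1 := by
    rintro rfl
    apply hr0
    rw [hr, Polynomial.modByMonic_one]
  have hdeg : r.degree < ψ.degree := by
    rw [hr]; exact degree_modByMonic_lt r₀ hψ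
  have hnd : r.natDegree < ψ.natDegree := by
    rwa [degree_eq_natDegree hr0, degree_eq_natDegree hψ.ne_zero, Nat.cast_lt] at hdeg
  have h1 := h (AdjoinRoot.mk ψ (X ^ (ψ.natDegree - 1 - r.natDegree)))
  rw [← map_mul, topCoeff_mk] at h1
  have hdeg2 : (r * X ^ (ψ.natDegree - 1 - r.natDegree)).degree < ψ.degree := by
    rw [degree_mul, degree_X_pow, degree_eq_natDegree hr0, degree_eq_natDegree hψ.ne_zero,
      ← Nat.cast_add, Nat.cast_lt]
    omega
  rw [(Polynomial.modByMonic_eq_self_iff hψ).mpr hdeg2, coeff_mul_X_pow'] at h1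
  rw [if_pos (by omega)] at h1
  have h2 : ψ.natDegree - 1 - (ψ.natDegree - 1 - r.natDegree) = r.natDegree := by omega
  rw [h2] at h1
  exact hr0 (leadingCoeff_eq_zero.mp h1)

/-- the alternating form on `L × L` -/
noncomputable def compForm : LinearMap.BilinForm F (AdjoinRoot ψ × AdjoinRoot ψ) :=
  LinearMap.mk₂ F (fun x y => topCoeff ψ hψ (x.1 * y.2 - x.2 * y.1))
    (fun x x' y => by
      rw [← map_add]; congr 1
      simp only [Prod.fst_add, Prod.snd_add]; ring)
    (fun c x y => by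
      show topCoeff ψ hψ ((c • x).1 * y.2 - (c • x).2 * y.1) =
        c • topCoeff ψ hψ (x.1 * y.2 - x.2 * y.1)
      rw [← map_smul]; congr 1
      simp only [Prod.smul_fst, Prod.smul_snd, smul_sub, smul_mul_assoc])
    (fun x y y' => by
      rw [← map_add]; congr 1
      simp only [Prod.fst_add, Prod.snd_add]; ring)
    (fun c x y => by
      show topCoeff ψ hψ (x.1 * (c • y).2 - x.2 * (c • y).1) =
        c • topCoeff ψ hψ (x.1 * y.2 - x.2 * y.1)
      rw [← map_smul]; congr 1
      simp only [Prod.smul_fst, Prod.smul_snd, smul_sub, mul_smul_comm])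

theorem compForm_apply (x y : AdjoinRoot ψ × AdjoinRoot ψ) :
    compForm ψ hψ x y = topCoeff ψ hψ (x.1 * y.2 - x.2 * y.1) := rfl

theorem compForm_isAlt : (compForm ψ hψ).IsAlt := by
  intro x
  rw [compForm_apply, mul_comm x.1 x.2, sub_self, map_zero]

theorem compForm_nondeg (x : AdjoinRoot ψ × AdjoinRoot ψ) (h : ∀ y, compForm ψ hψ x y = 0) :
    x = 0 := by
  have h1 : x.1 = 0 := by
    apply topCoeff_nondeg ψ hψ
    intro b
    have := h (0, b)
    rwa [compForm_apply, mul_zero, sub_zero] at this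
  have h2 : x.2 = 0 := by
    apply topCoeff_nondeg ψ hψ
    intro b
    have := h (b, 0)
    rw [compForm_apply, mul_zero, zero_sub, map_neg, neg_eq_zero] at this
    exact this
  exact Prod.ext h1 h2

/-- the companion isometry `(a, b) ↦ (-b, a + X b)` -/
noncomputable def compMap : Module.End F (AdjoinRoot ψ × AdjoinRoot ψ) :=
  (-(LinearMap.snd F _ _)).prod
    (LinearMap.fst F _ _ + (LinearMap.mulLeft F (AdjoinRoot.root ψ)).comp (LinearMap.snd F _ _))

theorem compMap_apply (x : AdjoinRoot ψ × AdjoinRoot ψ) :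
    compMap ψ x = (-x.2, x.1 + AdjoinRoot.root ψ * x.2) := rfl

/-- its inverse `(a, b) ↦ (X a + b, -a)` -/
noncomputable def compInv : Module.End F (AdjoinRoot ψ × AdjoinRoot ψ) :=
  ((LinearMap.mulLeft F (AdjoinRoot.root ψ)).comp (LinearMap.fst F _ _) + LinearMap.snd F _ _).prod
    (-(LinearMap.fst F _ _))

theorem compInv_apply (x : AdjoinRoot ψ × AdjoinRoot ψ) :
    compInv ψ x = (AdjoinRoot.root ψ * x.1 + x.2, -x.1) := rfl

theorem compInv_compMap (x : AdjoinRoot ψ × AdjoinRoot ψ) : compInv ψ (compMap ψ x) = x := by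
  rw [compMap_apply, compInv_apply]
  ext <;> simp

theorem compMap_compInv (x : AdjoinRoot ψ × AdjoinRoot ψ) : compMap ψ (compInv ψ x) = x := by
  rw [compInv_apply, compMap_apply]
  ext <;> simp

theorem compForm_compMap (x y : AdjoinRoot ψ × AdjoinRoot ψ) :
    compForm ψ hψ (compMap ψ x) (compMap ψ y) = compForm ψ hψ x y := by
  rw [compForm_apply, compForm_apply, compMap_apply, compMap_apply]
  congr 1
  simp only
  ring

end comp

end Cfsg.Agent.Lib.Helper5.SemiCount
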