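import Mathlib
import Cfsg.Agent.Lib.Helper5.SemiCount.Comp
import Cfsg.Agent.Lib.Helper5.SemiConj.Types

set_option autoImplicit false

/-!
# The characteristic polynomial of the symplectic companion isometry
-/

namespace Cfsg.Agent.Lib.Helper5.SemiCount

open Polynomial Module Cfsg.Agent.Lib.Helper5.SemiConj

section comp
variable {F : Type*} [Field F] (ψ : F[X])

/-- multiplication by the root on `L × L` -/
noncomputable def compScal : Module.End F (AdjoinRoot ψ × AdjoinRoot ψ) :=
  Algebra.lsmul F F (AdjoinRoot ψ × AdjoinRoot ψ) (AdjoinRoot.root ψ)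

theorem compScal_apply (x : AdjoinRoot ψ × AdjoinRoot ψ) :
    compScal ψ x = (AdjoinRoot.root ψ * x.1, AdjoinRoot.root ψ * x.2) := rfl

theorem aeval_compScal (p : F[X]) (x : AdjoinRoot ψ × AdjoinRoot ψ) :
    aeval (compScal ψ) p x = (AdjoinRoot.mk ψ p * x.1, AdjoinRoot.mk ψ p * x.2) := by
  have h := Polynomial.aeval_algHom_apply
    (Algebra.lsmul F F (AdjoinRoot ψ × AdjoinRoot ψ)) (AdjoinRoot.root ψ) p
  rw [AdjoinRoot.aeval_eq] at h
  rw [compScal, h]
  rfl

theorem compMap_add_compInv : compMap ψ + compInv ψ = compScal ψ := by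
  apply LinearMap.ext
  intro x
  rw [LinearMap.add_apply, compMap_apply, compInv_apply, compScal_apply]
  ext <;> simp <;> try ring

theorem compMap_sq_add_one : compMap ψ * compMap ψ + 1 = compMap ψ * compScal ψ := by
  apply LinearMap.ext
  intro x
  rw [LinearMap.add_apply, Module.End.mul_apply, Module.End.mul_apply, Module.End.one_apply,
    compScal_apply, compMap_apply, compMap_apply, compMap_apply]
  ext <;> simp <;> try ring

theorem compMap_comm_compScal : Commute (compMap ψ) (compScal ψ) := by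
  apply LinearMap.ext
  intro x
  rw [Module.End.mul_apply, Module.End.mul_apply, compScal_apply, compMap_apply, compMap_apply,
    compScal_apply]
  ext <;> simp <;> try ring

theorem aeval_compMap_palSum (n : ℕ) (d : ℕ → F) :
    aeval (compMap ψ) (palSum n d) =
      compMap ψ ^ n * aeval (compScal ψ) (∑ j ∈ Finset.range (n + 1), C (d j) * X ^ j) := by
  rw [palSum, map_sum, map_sum, Finset.mul_sum]
  apply Finset.sum_congr rfl
  intro j hj
  have hj' : j ≤ n := Nat.lt_succ_iff.mp (Finset.mem_range.mp hj)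
  have h1 : aeval (compMap ψ) (X ^ 2 + 1 : F[X]) = compMap ψ * compScal ψ := by
    rw [map_add, map_pow, aeval_X, map_one, pow_two, compMap_sq_add_one]
  have h2 : compMap ψ ^ n = compMap ψ ^ (n - j) * compMap ψ ^ j := by
    rw [← pow_add, Nat.sub_add_cancel hj']
  have h3 : aeval (compMap ψ) (C (d j) * X ^ (n - j) * (X ^ 2 + 1) ^ j) =
      d j • (compMap ψ ^ (n - j) * (compMap ψ ^ j * compScal ψ ^ j)) := by
    rw [map_mul, map_mul, map_pow, map_pow, aeval_X, h1, aeval_C,
      (compMap_comm_compScal ψ).mul_pow, Algebra.algebraMap_eq_smul_one, smul_mul_assoc,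
      smul_mul_assoc, one_mul]
  have h4 : aeval (compScal ψ) (C (d j) * X ^ j) = d j • compScal ψ ^ j := by
    rw [map_mul, map_pow, aeval_X, aeval_C, Algebra.algebraMap_eq_smul_one, smul_mul_assoc,
      one_mul]
  rw [h3, h4, h2, mul_smul_comm, mul_assoc]

theorem aeval_compMap_eq_zero :
    aeval (compMap ψ) (palSum ψ.natDegree (fun j => ψ.coeff j)) = 0 := by
  rw [aeval_compMap_palSum]
  have h1 : (∑ j ∈ Finset.range (ψ.natDegree + 1), C (ψ.coeff j) * X ^ j) = ψ :=
    (Polynomial.as_sum_range_C_mul_X_pow ψ).symm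
  rw [h1]
  have h2 : aeval (compScal ψ) ψ = 0 := by
    apply LinearMap.ext
    intro x
    rw [aeval_compScal, AdjoinRoot.mk_self, zero_mul, zero_mul]
    rfl
  rw [h2, mul_zero]

/-- `(1, 0)` is a cyclic vector -/
theorem compMap_cyclic [FiniteDimensional F (AdjoinRoot ψ × AdjoinRoot ψ)] :
    LinearMap.range (evalAt (compMap ψ) ((1, 0) : AdjoinRoot ψ × AdjoinRoot ψ)) = ⊤ := by
  set R := LinearMap.range (evalAt (compMap ψ) ((1, 0) : AdjoinRoot ψ × AdjoinRoot ψ)) with hR
  have hg : ∀ w ∈ R, compMap ψ w ∈ R := evalAt_range_g_mem _ _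
  have hgi : ∀ w ∈ R, compInv ψ w ∈ R := by
    intro w hw
    have hinj : Function.Injective ((compMap ψ).restrict hg) := by
      intro a b hab
      have h1 : compMap ψ (a : AdjoinRoot ψ × AdjoinRoot ψ) = compMap ψ b :=
        congrArg Subtype.val hab
      have h2 := congrArg (compInv ψ) h1
      rw [compInv_compMap, compInv_compMap] at h2
      exact Subtype.ext h2
    obtain ⟨y, hy⟩ := (LinearMap.injective_iff_surjective.mp hinj) ⟨w, hw⟩
    have h1 : compMap ψ (y : AdjoinRoot ψ × AdjoinRoot ψ) = w := congrArg Subtype.val hy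
    rw [← h1, compInv_compMap]
    exact y.2
  have hm : ∀ w ∈ R, compScal ψ w ∈ R := by
    intro w hw
    rw [← compMap_add_compInv, LinearMap.add_apply]
    exact R.add_mem (hg w hw) (hgi w hw)
  have h10 : ((1, 0) : AdjoinRoot ψ × AdjoinRoot ψ) ∈ R := self_mem_range_evalAt _ _
  have h01 : ((0, 1) : AdjoinRoot ψ × AdjoinRoot ψ) ∈ R := by
    have := hg _ h10
    rw [compMap_apply] at this
    simpa using this
  rw [eq_top_iff]
  rintro ⟨a, b⟩ -
  obtain ⟨p, rfl⟩ := AdjoinRoot.mk_surjective a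
  obtain ⟨p', rfl⟩ := AdjoinRoot.mk_surjective b
  have e1 := aeval_apply_mem (compScal ψ) R hm p h10
  have e2 := aeval_apply_mem (compScal ψ) R hm p' h01
  rw [aeval_compScal] at e1 e2
  have : ((AdjoinRoot.mk ψ p, AdjoinRoot.mk ψ p') : AdjoinRoot ψ × AdjoinRoot ψ) =
      (AdjoinRoot.mk ψ p * (1 : AdjoinRoot ψ), AdjoinRoot.mk ψ p * (0 : AdjoinRoot ψ)) +
      (AdjoinRoot.mk ψ p' * (0 : AdjoinRoot ψ), AdjoinRoot.mk ψ p' * (1 : AdjoinRoot ψ)) := by
    ext <;> simp
  rw [this]
  exact R.add_mem e1 e2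

theorem finrank_adjoinRoot_prod (hψ : ψ.Monic) :
    finrank F (AdjoinRoot ψ × AdjoinRoot ψ) = 2 * ψ.natDegree := by
  have := hψ.finite_adjoinRoot
  have := hψ.free_adjoinRoot
  have h1 : finrank F (AdjoinRoot ψ) = ψ.natDegree := by
    rw [(AdjoinRoot.powerBasis' hψ).finrank]
    rfl
  rw [Module.finrank_prod, h1]
  ring

/-- the characteristic polynomial of the companion isometry -/
theorem charpoly_compMap (hψ : ψ.Monic) [FiniteDimensional F (AdjoinRoot ψ × AdjoinRoot ψ)] :
    LinearMap.charpoly (compMap ψ) = palSum ψ.natDegree (fun j => ψ.coeff j) := by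
  apply charpoly_eq_of_cyclic (compMap ψ) _ (palSum_monic _ _ hψ.coeff_natDegree)
    (by rw [palSum_natDegree _ _ hψ.coeff_natDegree, finrank_adjoinRoot_prod ψ hψ])
    (aeval_compMap_eq_zero ψ) (1, 0) (compMap_cyclic ψ)

end comp

end Cfsg.Agent.Lib.Helper5.SemiCount
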