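import Mathlib
import Cfsg.Agent.Lib.Helper5.SemiCount.Comp2
import Cfsg.Agent.Lib.Helper5.AltRep
import Cfsg.Agent.Lib.Helper5.SympBridge

set_option autoImplicit false

/-!
# Realizing palindromic polynomials as characteristic polynomials of symplectic matrices
-/

namespace Cfsg.Agent.Lib.Helper5.SemiCount

open Polynomial Module Matrix Cfsg
open Cfsg.Agent.Lib.Helper5.AltRep Cfsg.Agent.Lib.Helper5.AltForm Cfsg.Agent.Lib.Helper5.SympBridge

universe u

/-- an isometry of a nondegenerate alternating space of dimension `2n`, as a symplectic matrix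
with the same characteristic polynomial -/
theorem exists_symplectic_of_alt_isometry {F : Type*} [Field F] {V : Type u} [AddCommGroup V]
    [Module F V] [FiniteDimensional F V] (B : LinearMap.BilinForm F V) (hA : B.IsAlt)
    (hnd : ∀ x, (∀ y, B x y = 0) → x = 0) (g gi : Module.End F V) (hgi : ∀ x, gi (g x) = x)
    (hgi' : ∀ x, g (gi x) = x) (hg : ∀ x y, B (g x) (g y) = B x y) (n : ℕ)
    (hn : finrank F V = 2 * n) :
    ∃ A : ↥(Matrix.symplecticGroup (Fin n) F),
      (A : Matrix (Fin n ⊕ Fin n) (Fin n ⊕ Fin n) F).charpoly = LinearMap.charpoly g := by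
  obtain ⟨m, k, b, h1, h2, h3, h4, hdim, hk⟩ := exists_darboux_basis B hA
  have hk0 : k = 0 := by
    by_contra hk0
    have hpos : 0 < k := Nat.pos_of_ne_zero hk0
    have := hnd (b (Sum.inr ⟨0, hpos⟩)) (h4 ⟨0, hpos⟩)
    exact b.ne_zero _ this
  have hmn : m = n := by omega
  subst hmn
  have hinj : Function.Injective (hyp b) := by
    rw [← LinearMap.ker_eq_bot, Submodule.eq_bot_iff]
    intro v hv
    exact hnd v (radical_of_hyp_eq_zero b B h1 h2 h3 h4 hA v (LinearMap.mem_ker.mp hv))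
  have hsurj : Function.Surjective (hyp b) := fun y => ⟨sec b y, hyp_sec b y⟩
  let φ : V ≃ₗ[F] (Fin m ⊕ Fin m → F) := LinearEquiv.ofBijective (hyp b) ⟨hinj, hsurj⟩
  have hφ : ∀ v, φ v = hyp b v := fun v => rfl
  let ge : V ≃ₗ[F] V := LinearEquiv.ofLinearMap g gi
    (LinearMap.ext fun x => by simp [hgi']) (LinearMap.ext fun x => by simp [hgi])
  have hge : ∀ v, ge v = g v := fun v => rfl
  let g' : (Fin m ⊕ Fin m → F) ≃ₗ[F] (Fin m ⊕ Fin m → F) := φ.symm.trans (ge.trans φ)
  have hg' : ∀ u v, sympForm m F (g' u) (g' v) = sympForm m F u v := by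
    intro u v
    obtain ⟨x, rfl⟩ := φ.surjective u
    obtain ⟨y, rfl⟩ := φ.surjective v
    have e1 : g' (φ x) = φ (g x) := by
      simp [g', hge]
    have e2 : g' (φ y) = φ (g y) := by
      simp [g', hge]
    rw [e1, e2, hφ, hφ, hφ, hφ]
    have f1 := form_eq b B h1 h2 h3 h4 hA (g x) (g y)
    have f2 := form_eq b B h1 h2 h3 h4 hA x y
    rw [hg] at f1
    have := f1.symm.trans f2
    exact neg_injective this
  obtain ⟨A, hA'⟩ := exists_symplectic_of_isometry m g' hg'
  refine ⟨A, ?_⟩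
  rw [← Matrix.charpoly_toLin', ← LinearEquiv.charpoly_conj φ g]
  congr 1
  apply LinearMap.ext
  intro v
  rw [Matrix.toLin'_apply, hA', LinearEquiv.conj_apply, LinearMap.comp_apply, LinearMap.comp_apply]
  rfl

end Cfsg.Agent.Lib.Helper5.SemiCount
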