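import Mathlib
import Cfsg.Agent.Lib.Helper5.SemiCount.SpChar
import Cfsg.Agent.Lib.Helper5.SemiCount.SpReal
import Cfsg.Agent.Lib.Helper5.SemiConj.Sp

set_option autoImplicit false

/-!
# The number of semisimple classes of `Sp_{2n}(q)` is `q^n`
-/

namespace Cfsg.Agent.Lib.Helper5.SemiCount

open Polynomial Module Matrix Cfsg

section count
variable {F : Type*} [Field F] (n : ℕ)

/-- the coefficient sequence `c_0, …, c_{n-1}, 1, 0, …` -/
def dOf (c : Fin n → F) : ℕ → F :=
  fun j => if h : j < n then c ⟨j, h⟩ else if j = n then 1 else 0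

theorem dOf_lt (c : Fin n → F) (j : ℕ) (h : j < n) : dOf n c j = c ⟨j, h⟩ := by
  rw [dOf, dif_pos h]

theorem dOf_self (c : Fin n → F) : dOf n c n = 1 := by
  rw [dOf, dif_neg (lt_irrefl n), if_pos rfl]

theorem dOf_gt (c : Fin n → F) (j : ℕ) (h : n < j) : dOf n c j = 0 := by
  rw [dOf, dif_neg (by omega), if_neg (by omega)]

/-- the palindromic polynomial with parameters `c` -/
noncomputable def spPoly (c : Fin n → F) : F[X] := palSum n (dOf n c)

theorem spPoly_injective : Function.Injective (spPoly (F := F) n) := by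
  intro c c' h
  funext j
  have := palSum_injective n _ _ h j j.2.le
  rwa [dOf_lt n c j j.2, dOf_lt n c' j j.2] at this

/-- the monic polynomial with lower coefficients `c` -/
noncomputable def psiOf (c : Fin n → F) : F[X] :=
  ∑ j ∈ Finset.range (n + 1), C (dOf n c j) * X ^ j

theorem psiOf_coeff (c : Fin n → F) (i : ℕ) : (psiOf n c).coeff i = dOf n c i := by
  rw [psiOf, finsetSum_coeff]
  simp_rw [coeff_C_mul_X_pow]
  rw [Finset.sum_ite_eq]
  by_cases hi : i ∈ Finset.range (n + 1)
  · rw [if_pos hi]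
  · rw [if_neg hi, dOf_gt]
    have := Finset.mem_range.not.mp hi
    omega

theorem psiOf_natDegree_le (c : Fin n → F) : (psiOf n c).natDegree ≤ n := by
  rw [natDegree_le_iff_coeff_eq_zero]
  intro i hi
  rw [psiOf_coeff, dOf_gt n c i hi]

theorem psiOf_monic (c : Fin n → F) : (psiOf n c).Monic :=
  Polynomial.monic_of_natDegree_le_of_coeff_eq_one n (psiOf_natDegree_le n c)
    (by rw [psiOf_coeff, dOf_self])

theorem psiOf_natDegree (c : Fin n → F) : (psiOf n c).natDegree = n :=
  natDegree_eq_of_le_of_coeff_ne_zero (psiOf_natDegree_le n c)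
    (by rw [psiOf_coeff, dOf_self]; exact one_ne_zero)

/-- every `spPoly` is the characteristic polynomial of a symplectic matrix -/
theorem exists_symp_charpoly (c : Fin n → F) :
    ∃ A : ↥(Matrix.symplecticGroup (Fin n) F),
      (A : Matrix (Fin n ⊕ Fin n) (Fin n ⊕ Fin n) F).charpoly = spPoly n c := by
  have hψ := psiOf_monic n c
  have := hψ.finite_adjoinRoot
  have hfin : finrank F (AdjoinRoot (psiOf n c) × AdjoinRoot (psiOf n c)) = 2 * n := by
    rw [finrank_adjoinRoot_prod _ hψ, psiOf_natDegree]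
  obtain ⟨A, hA⟩ := exists_symplectic_of_alt_isometry (compForm (psiOf n c) hψ)
    (compForm_isAlt _ hψ) (compForm_nondeg _ hψ) (compMap _) (compInv _)
    (compInv_compMap _) (compMap_compInv _) (compForm_compMap _ hψ) n hfin
  refine ⟨A, ?_⟩
  rw [hA, charpoly_compMap _ hψ, psiOf_natDegree, spPoly]
  rw [palSum, palSum]
  apply Finset.sum_congr rfl
  intro j _
  rw [psiOf_coeff]

/-- the characteristic polynomial of a symplectic matrix is an `spPoly` -/
theorem exists_spPoly_of_symp (A : ↥(Matrix.symplecticGroup (Fin n) F)) :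
    ∃ c : Fin n → F, (A : Matrix (Fin n ⊕ Fin n) (Fin n ⊕ Fin n) F).charpoly = spPoly n c := by
  have hcard : Fintype.card (Fin n ⊕ Fin n) = 2 * n := by
    rw [Fintype.card_sum, Fintype.card_fin]; ring
  have hdeg : (A : Matrix (Fin n ⊕ Fin n) (Fin n ⊕ Fin n) F).charpoly.natDegree = 2 * n := by
    rw [Matrix.charpoly_natDegree_eq_dim, hcard]
  obtain ⟨d, hd⟩ := exists_palSum n _ hdeg.le (symp_charpoly_coeff_symm n _ A.2)
  have hdn : d n = 1 := by
    rw [← palSum_coeff_top n d, ← hd, ← hdeg]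
    exact (Matrix.charpoly_monic _).coeff_natDegree
  refine ⟨fun j => d j, ?_⟩
  rw [hd, spPoly, palSum, palSum]
  apply Finset.sum_congr rfl
  intro j hj
  have hj' : j ≤ n := Nat.lt_succ_iff.mp (Finset.mem_range.mp hj)
  rcases Nat.lt_or_ge j n with h | h
  · rw [dOf_lt n _ j h]
  · have : j = n := by omega
    rw [this, dOf_self, hdn]

theorem symp_charpoly_conj (g h : ↥(Matrix.symplecticGroup (Fin n) F)) (hc : IsConj g h) :
    (g : Matrix (Fin n ⊕ Fin n) (Fin n ⊕ Fin n) F).charpoly =
      (h : Matrix (Fin n ⊕ Fin n) (Fin n ⊕ Fin n) F).charpoly := by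
  obtain ⟨c, rfl⟩ := isConj_iff.mp hc
  have h1 : ((c * g * c⁻¹ : ↥(Matrix.symplecticGroup (Fin n) F)) :
      Matrix (Fin n ⊕ Fin n) (Fin n ⊕ Fin n) F) =
      (c : Matrix (Fin n ⊕ Fin n) (Fin n ⊕ Fin n) F) * (g : Matrix _ _ F) *
        ((c⁻¹ : ↥(Matrix.symplecticGroup (Fin n) F)) : Matrix _ _ F) := rfl
  have h2 : ((c⁻¹ : ↥(Matrix.symplecticGroup (Fin n) F)) : Matrix (Fin n ⊕ Fin n) (Fin n ⊕ Fin n) F)
      * (c : Matrix _ _ F) = 1 := congrArg Subtype.val (inv_mul_cancel c)
  rw [h1, Matrix.charpoly_mul_comm, ← Matrix.mul_assoc, h2, Matrix.one_mul]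

end count

section final
variable {F : Type*} [Field F] [Fintype F] (p : ℕ) [Fact p.Prime] [CharP F p] (n : ℕ)

theorem card_symp_semisimple_classes :
    Nat.card {c : ConjClasses ↥(Matrix.symplecticGroup (Fin n) F) //
      ∃ g : ↥(Matrix.symplecticGroup (Fin n) F), ConjClasses.mk g = c ∧ (orderOf g).Coprime p} =
      Fintype.card F ^ n := by
  classical
  let S := {c : ConjClasses ↥(Matrix.symplecticGroup (Fin n) F) //
      ∃ g : ↥(Matrix.symplecticGroup (Fin n) F), ConjClasses.mk g = c ∧ (orderOf g).Coprime p}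
  let rep : S → ↥(Matrix.symplecticGroup (Fin n) F) := fun k => k.2.choose
  have hrep : ∀ k : S, ConjClasses.mk (rep k) = k.1 ∧ (orderOf (rep k)).Coprime p :=
    fun k => k.2.choose_spec
  let Φ : S → (Fin n → F) := fun k => (exists_spPoly_of_symp n (rep k)).choose
  have hΦ : ∀ k : S, ((rep k : ↥(Matrix.symplecticGroup (Fin n) F)) :
      Matrix (Fin n ⊕ Fin n) (Fin n ⊕ Fin n) F).charpoly = spPoly n (Φ k) :=
    fun k => (exists_spPoly_of_symp n (rep k)).choose_spec
  have hbij : Function.Bijective Φ := by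
    constructor
    · intro k k' hkk
      have h1 : ((rep k : ↥(Matrix.symplecticGroup (Fin n) F)) :
          Matrix (Fin n ⊕ Fin n) (Fin n ⊕ Fin n) F).charpoly =
          ((rep k' : ↥(Matrix.symplecticGroup (Fin n) F)) :
            Matrix (Fin n ⊕ Fin n) (Fin n ⊕ Fin n) F).charpoly := by
        rw [hΦ k, hΦ k', hkk]
      have h2 : IsConj (rep k) (rep k') :=
        Cfsg.Agent.Lib.Helper5.SemiConj.symp_conj_of_charpoly_eq p n (g := rep k) (h := rep k')
          (hrep k).2 (hrep k').2 h1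
      apply Subtype.ext
      rw [← (hrep k).1, ← (hrep k').1]
      exact ConjClasses.mk_eq_mk_iff_isConj.mpr h2
    · intro c
      obtain ⟨A, hA⟩ := exists_symp_charpoly n c
      obtain ⟨h, hh, hch⟩ := exists_coprime_order_same_charpoly p
        (Matrix.symplecticGroup (Fin n) F).subtype A (isOfFinOrder_of_finite A)
      have hch' : (h : Matrix (Fin n ⊕ Fin n) (Fin n ⊕ Fin n) F).charpoly = spPoly n c := by
        rw [← hA]; exact hch
      let k : S := ⟨ConjClasses.mk h, h, rfl, hh⟩
      refine ⟨k, ?_⟩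
      apply spPoly_injective n
      rw [← hΦ k, ← hch']
      apply symp_charpoly_conj
      exact ConjClasses.mk_eq_mk_iff_isConj.mp (hrep k).1
  rw [Nat.card_eq_of_bijective Φ hbij, Nat.card_eq_fintype_card, Fintype.card_fun, Fintype.card_fin]

end final

end Cfsg.Agent.Lib.Helper5.SemiCount
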