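import Mathlib
import Cfsg.Agent.Lib.Helper5.SemiCount.SpCount
import Cfsg.Agent.Lib.Helper5.SemiCount.GUPrime

set_option autoImplicit false

/-!
# Classes of elements of odd prime order in `Sp_{2m}(q)`
-/

namespace Cfsg.Agent.Lib.Helper5.SemiCount

open Polynomial Module Matrix Cfsg
open Cfsg.Agent.Lib.Helper4.PrimeOrd

section spgl
variable {F : Type*} [Field F] (m : ℕ)

/-- the symplectic group inside `GL_{2m}`, with the indexing by `Fin (m + m)` -/
noncomputable def spToGL : ↥(Matrix.symplecticGroup (Fin m) F) →* GL (Fin (m + m)) F :=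
  ((Matrix.reindexAlgEquiv F F (finSumFinEquiv (m := m) (n := m))).toMulEquiv.toMonoidHom.comp
    (Matrix.symplecticGroup (Fin m) F).subtype).toHomUnits

theorem spToGL_val (A : ↥(Matrix.symplecticGroup (Fin m) F)) :
    ((spToGL m A : GL (Fin (m + m)) F) : Matrix (Fin (m + m)) (Fin (m + m)) F) =
      Matrix.reindex (finSumFinEquiv (m := m) (n := m)) (finSumFinEquiv (m := m) (n := m))
        (A : Matrix (Fin m ⊕ Fin m) (Fin m ⊕ Fin m) F) := rfl

theorem spToGL_charpoly (A : ↥(Matrix.symplecticGroup (Fin m) F)) :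
    ((spToGL m A : GL (Fin (m + m)) F) : Matrix (Fin (m + m)) (Fin (m + m)) F).charpoly =
      (A : Matrix (Fin m ⊕ Fin m) (Fin m ⊕ Fin m) F).charpoly := by
  rw [spToGL_val, Matrix.charpoly_reindex]

theorem spToGL_injective : Function.Injective (spToGL (F := F) m) := by
  intro A B h
  have := congrArg Units.val h
  rw [spToGL_val, spToGL_val] at this
  exact Subtype.ext ((Matrix.reindex _ _).injective this)

end spgl

section pal
variable {F : Type*} [Field F]

theorem coeff_zero_eq_one_of_star {ψ : F[X]} (h0 : ψ.coeff 0 ≠ 0)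
    (hst : star (RingHom.id F) ψ = ψ) (h1 : eval 1 ψ ≠ 0) : ψ.coeff 0 = 1 := by
  have hrev : ψ.reverse = C (ψ.coeff 0) * ψ := by
    calc ψ.reverse = C (ψ.coeff 0) * (C (ψ.coeff 0)⁻¹ * (ψ.map (RingHom.id F)).reverse) := by
          rw [← mul_assoc, ← C_mul, mul_inv_cancel₀ h0, C_1, one_mul, Polynomial.map_id]
      _ = C (ψ.coeff 0) * star (RingHom.id F) ψ := rfl
      _ = C (ψ.coeff 0) * ψ := by rw [hst]
  let _ : Invertible (1 : F) := invertibleOne
  have h2 := eval₂_reverse_mul_pow (RingHom.id F) (1 : F) ψ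
  rw [invOf_one, one_pow, mul_one, eval₂_id, eval₂_id, hrev, eval_mul, eval_C] at h2
  have h3 : (ψ.coeff 0 - 1) * eval 1 ψ = 0 := by rw [sub_mul, h2, one_mul, sub_self]
  rcases mul_eq_zero.mp h3 with h | h
  · exact sub_eq_zero.mp h
  · exact absurd h h1

theorem reverse_eq_self_of_star {χ : F[X]} (h0 : χ.coeff 0 = 1)
    (hst : star (RingHom.id F) χ = χ) : χ.reverse = χ := by
  have h : star (RingHom.id F) χ = C (χ.coeff 0)⁻¹ * (χ.map (RingHom.id F)).reverse := rfl
  rw [h0, inv_one, C_1, one_mul, Polynomial.map_id] at h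
  rw [← h, hst]

/-- a monic palindromic polynomial of degree `2m` is an `spPoly` -/
theorem exists_spPoly_of_reverse (m : ℕ) (χ : F[X]) (hm : χ.Monic) (hdeg : χ.natDegree = 2 * m)
    (hrev : χ.reverse = χ) : ∃ c : Fin m → F, χ = spPoly m c := by
  have hsym : ∀ j ≤ 2 * m, χ.coeff j = χ.coeff (2 * m - j) := by
    intro j hj
    conv_lhs => rw [← hrev, coeff_reverse, hdeg, revAt_le hj]
  obtain ⟨d, hd⟩ := exists_palSum m χ hdeg.le hsym
  have hdn : d m = 1 := by
    rw [← palSum_coeff_top m d, ← hd, ← hdeg]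
    exact hm.coeff_natDegree
  refine ⟨fun j => d j, ?_⟩
  rw [hd, spPoly, palSum, palSum]
  apply Finset.sum_congr rfl
  intro j hj
  have hj' : j ≤ m := Nat.lt_succ_iff.mp (Finset.mem_range.mp hj)
  rcases Nat.lt_or_ge j m with h | h
  · rw [dOf_lt m _ j h]
  · have : j = m := by omega
    rw [this, dOf_self, hdn]

end pal

section spprime
variable {F : Type*} [Field F] [Fintype F] (p : ℕ) [Fact p.Prime] [CharP F p]
  {m r i t : ℕ} {f : Fin t → F[X]}

omit [Fintype F] in
theorem symp_charpoly_star (A : ↥(Matrix.symplecticGroup (Fin m) F)) :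
    star (RingHom.id F) (A : Matrix (Fin m ⊕ Fin m) (Fin m ⊕ Fin m) F).charpoly =
      (A : Matrix (Fin m ⊕ Fin m) (Fin m ⊕ Fin m) F).charpoly := by
  have hrev := symp_charpoly_reverse m _ A.2
  have hdet := SymplecticGroup.det_eq_one A.2
  have hcard : Fintype.card (Fin m ⊕ Fin m) = 2 * m := by
    rw [Fintype.card_sum, Fintype.card_fin]; ring
  have h0 : (A : Matrix (Fin m ⊕ Fin m) (Fin m ⊕ Fin m) F).charpoly.coeff 0 = 1 := by
    have h := Matrix.det_eq_sign_charpoly_coeff (A : Matrix (Fin m ⊕ Fin m) (Fin m ⊕ Fin m) F)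
    rw [hdet, hcard, pow_mul, neg_one_sq, one_pow, one_mul] at h
    exact h.symm
  have h : star (RingHom.id F) (A : Matrix (Fin m ⊕ Fin m) (Fin m ⊕ Fin m) F).charpoly =
      C ((A : Matrix (Fin m ⊕ Fin m) (Fin m ⊕ Fin m) F).charpoly.coeff 0)⁻¹ *
        ((A : Matrix (Fin m ⊕ Fin m) (Fin m ⊕ Fin m) F).charpoly.map (RingHom.id F)).reverse := rfl
  rw [h, h0, inv_one, C_1, one_mul, Polynomial.map_id, hrev]

theorem eval_one_fam_ne (H : FamHyp r i t f) (j : Fin t) : eval 1 (f j) ≠ 0 := by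
  intro h
  have h1 : (X - C 1 : F[X]) ∣ f j := dvd_iff_isRoot.mpr h
  rcases (H.irr j).dvd_iff.mp h1 with h2 | h2
  · exact (irreducible_X_sub_C (1 : F)).not_isUnit h2
  · exact H.ne1 j (eq_of_monic_of_associated (H.monic j) (monic_X_sub_C 1) h2)

/-- realising an invariant exponent vector by a `p'`-element of the symplectic group -/
theorem exists_symp_Pc (H : FamHyp r i t f) (π : Fin t → Fin t) (hπi : Function.Involutive π)
    (hπ : ∀ j, star (RingHom.id F) (f j) = f (π j)) (c : Fin t → ℕ) (hc : i * ∑ j, c j ≤ m + m)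
    (hcπ : ∀ j, c (π j) = c j) (hpar : Even (i * ∑ j, c j)) :
    ∃ g : ↥(Matrix.symplecticGroup (Fin m) F), (orderOf g).Coprime p ∧
      ((spToGL m g : GL (Fin (m + m)) F) : Matrix (Fin (m + m)) (Fin (m + m)) F).charpoly =
        Pc (m + m) i t f c := by
  classical
  -- the part prime to `X - 1`
  have hψdef : Pc (i * ∑ j, c j) i t f c = ∏ j, f j ^ c j := by
    unfold Pc
    rw [Nat.sub_self, pow_zero, one_mul]
  have hsplit : Pc (m + m) i t f c =
      (X - C 1) ^ (m + m - i * ∑ j, c j) * Pc (i * ∑ j, c j) i t f c := by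
    rw [hψdef]; rfl
  have hψst : star (RingHom.id F) (Pc (i * ∑ j, c j) i t f c) = Pc (i * ∑ j, c j) i t f c := by
    rw [star_Pc (RingHom.id F) π hπi hπ]
    congr 1
    funext j
    exact hcπ j
  have hψ1 : eval 1 (Pc (i * ∑ j, c j) i t f c) ≠ 0 := by
    rw [hψdef, eval_prod]
    apply Finset.prod_ne_zero_iff.mpr
    intro j _
    rw [eval_pow]
    exact pow_ne_zero _ (eval_one_fam_ne H j)
  have hψ0 := coeff_zero_eq_one_of_star (Pc_coeff_zero H c) hψst hψ1
  have hpar' : Even (m + m - i * ∑ j, c j) := by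
    have h1 : Even (m + m) := ⟨m, rfl⟩
    exact (Nat.even_sub hc).mpr ⟨fun _ => hpar, fun _ => h1⟩
  have hχ0 : (Pc (m + m) i t f c).coeff 0 = 1 := by
    rw [hsplit, mul_coeff_zero, hψ0, mul_one, coeff_zero_eq_eval_zero, eval_pow, eval_sub, eval_X,
      eval_C, zero_sub, hpar'.neg_one_pow]
  have hχst : star (RingHom.id F) (Pc (m + m) i t f c) = Pc (m + m) i t f c := by
    rw [star_Pc (RingHom.id F) π hπi hπ]
    congr 1
    funext j
    exact hcπ j
  have hrev := reverse_eq_self_of_star hχ0 hχst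
  obtain ⟨c', hc'⟩ := exists_spPoly_of_reverse m (Pc (m + m) i t f c) (Pc_monic H c)
    (by rw [Pc_natDegree H c hc, two_mul]) hrev
  obtain ⟨A, hA⟩ := exists_symp_charpoly m c'
  obtain ⟨h, hh, hch⟩ := exists_coprime_order_same_charpoly p
    (Matrix.symplecticGroup (Fin m) F).subtype A (isOfFinOrder_of_finite A)
  refine ⟨h, hh, ?_⟩
  rw [spToGL_charpoly, hc', ← hA]
  exact hch

theorem card_sp_classes_aux (H : FamHyp r i t f) (hr : r.Prime) (hrp : r ≠ p)
    (π : Fin t → Fin t) (hπi : Function.Involutive π)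
    (hπ : ∀ j, star (RingHom.id F) (f j) = f (π j))
    (hpar : ∀ c : Fin t → ℕ, (∀ j, c (π j) = c j) → Even (i * ∑ j, c j)) :
    Nat.card {C : ConjClasses ↥(Matrix.symplecticGroup (Fin m) F) //
      ∃ g : ↥(Matrix.symplecticGroup (Fin m) F), ConjClasses.mk g = C ∧ orderOf g = r} =
      Nat.card {c : Fin t → ℕ // ∑ j, c j ≤ (m + m) / i ∧ c ≠ 0 ∧ ∀ j, c (π j) = c j} := by
  apply card_classes_dual (F := F) p (n := m + m) (spToGL m) (spToGL_injective m) H hr hrp π
  · intro g hg
    apply charpoly_star_of_pc (RingHom.id F) H π hπi hπ _ (by rw [← map_pow, hg, map_one])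
    rw [spToGL_charpoly]
    exact symp_charpoly_star g
  · intro g h hg hh hc
    rw [spToGL_charpoly, spToGL_charpoly] at hc
    exact Cfsg.Agent.Lib.Helper5.SemiConj.symp_conj_of_charpoly_eq p m g h hg hh hc
  · intro c hc hcπ
    exact exists_symp_Pc p H π hπi hπ c hc hcπ (hpar c hcπ)

theorem card_sp_prime_order_classes {q : ℕ} (hF : Fintype.card F = q) (m r i t : ℕ)
    (hr : r.Prime) (hr2 : r ≠ 2) (hrp : r ≠ p) (hi : i = orderOf (q : ZMod r))
    (ht : t * i = r - 1) :
    Nat.card {C : ConjClasses ↥(Matrix.symplecticGroup (Fin m) F) //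
      ∃ g : ↥(Matrix.symplecticGroup (Fin m) F), ConjClasses.mk g = C ∧ orderOf g = r} =
      if Odd i then Nat.choose (m / i + t / 2) (t / 2) - 1
      else Nat.choose (2 * m / i + t) t - 1 := by
  classical
  have : Fact r.Prime := ⟨hr⟩
  have hp : p.Prime := Fact.out
  have hqr : (q : ZMod r) ≠ 0 := by
    obtain ⟨k, -, hk⟩ := FiniteField.card F p
    rw [Ne, ZMod.natCast_eq_zero_iff, ← hF, hk]
    intro h
    exact hrp ((Nat.prime_dvd_prime_iff_eq hr hp).mp (hr.dvd_of_dvd_pow h))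
  have hi' : i = orderOf ((Fintype.card F : ℕ) : ZMod r) := by rw [hF]; exact hi
  obtain ⟨f, H⟩ := exists_family (F := F) p r i t hr hrp hi' ht
  have hσ2 : ∀ a : F, (RingHom.id F) ((RingHom.id F) a) = a := fun a => rfl
  obtain ⟨π, hπi, hπ⟩ := exists_dual_perm (RingHom.id F) hσ2 H
  have htype : ∀ j, star (RingHom.id F) (f j) = f j ↔ Even i := by
    intro j
    rw [star_eq_self_iff p (RingHom.id F) hσ2 hr 0 (pow_zero p).symm
      (fun a => (pow_one a).symm) (H.monic j) (H.irr j) (H.dvd j) (H.ne1 j), hF, hi]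
    exact exists_dvd_pow_add_one_iff hr2 q hqr
  by_cases hev : Even i
  · rw [if_neg (Nat.not_odd_iff_even.mpr hev)]
    have hπid : π = id := by
      funext j
      apply H.inj
      rw [← hπ j]
      exact (htype j).mpr hev
    rw [card_sp_classes_aux p H hr hrp π hπi hπ (fun c _ => hev.mul_right _), hπid,
      card_dual_id, two_mul]
  · rw [if_pos (Nat.not_even_iff_odd.mp hev)]
    have hfp : ∀ j, π j ≠ j := by
      intro j hj
      apply hev
      rw [← htype j, hπ j, hj]
    rw [card_sp_classes_aux p H hr hrp π hπi hπ (fun c hc => by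
        rw [sum_eq_two_mul π hπi hfp c hc]
        exact (even_two_mul _).mul_left _),
      card_dual_fpf π hπi hfp, Nat.div_div_eq_div_mul, ← two_mul, mul_comm i 2,
      Nat.mul_div_mul_left _ _ (by norm_num : 0 < 2)]

end spprime

end Cfsg.Agent.Lib.Helper5.SemiCount
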