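import Mathlib

set_option autoImplicit false

/-!
# Fixed points of a semilinear involution
-/

namespace Cfsg.Agent.Lib.Helper5.SemiCount

section fix
variable {F : Type*} [Field F] {σ : F →+* F} {W : Type*} [AddCommGroup W] [Module F W]

/-- the fixed points of a `σ`-semilinear involution form a "real form": `W = Fix ⊕ λ Fix` -/
theorem card_fix_sq (hσ : σ ≠ RingHom.id F) (hσ2 : ∀ a, σ (σ a) = a)
    (Θ : W →+ W) (hsmul : ∀ (a : F) (u : W), Θ (a • u) = σ a • Θ u)
    (hinv : ∀ u, Θ (Θ u) = u) :
    Nat.card {w : W // Θ w = w} ^ 2 = Nat.card W := by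
  obtain ⟨lam, hlam⟩ : ∃ lam : F, σ lam ≠ lam := by
    by_contra h
    push Not at h
    exact hσ (RingHom.ext h)
  obtain ⟨μ, hμdef⟩ : ∃ μ : F, μ = lam - σ lam := ⟨_, rfl⟩
  have hμ0 : μ ≠ 0 := by rw [hμdef]; exact sub_ne_zero.mpr (Ne.symm hlam)
  have hμσ : σ μ = -μ := by rw [hμdef, map_sub, hσ2]; ring
  let Ψ : {w : W // Θ w = w} × {w : W // Θ w = w} → W := fun p => p.1.1 + lam • p.2.1
  have hbij : Function.Bijective Ψ := by
    constructor
    · rintro ⟨⟨c, hc⟩, ⟨c', hc'⟩⟩ ⟨⟨d, hd⟩, ⟨d', hd'⟩⟩ h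
      have h1 : c + lam • c' = d + lam • d' := h
      have h2 : c + σ lam • c' = d + σ lam • d' := by
        have := congrArg Θ h1
        rwa [map_add, map_add, hsmul, hsmul, hc, hc', hd, hd'] at this
      have h3 : μ • (c' - d') = 0 := by
        rw [hμdef, sub_smul, smul_sub, smul_sub]
        have e1 : lam • c' - lam • d' = d - c := by
          rw [sub_eq_sub_iff_add_eq_add, add_comm, h1, add_comm]
        have e2 : σ lam • c' - σ lam • d' = d - c := by
          rw [sub_eq_sub_iff_add_eq_add, add_comm, h2, add_comm]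
        rw [e1, e2, sub_self]
      have h4 : c' = d' := by
        rcases smul_eq_zero.mp h3 with h | h
        · exact absurd h hμ0
        · exact sub_eq_zero.mp h
      subst h4
      have h5 : c = d := add_right_cancel h1
      subst h5
      rfl
    · intro v
      obtain ⟨c', hc'def⟩ : ∃ c' : W, c' = μ⁻¹ • (v - Θ v) := ⟨_, rfl⟩
      have hc' : Θ c' = c' := by
        rw [hc'def, hsmul, map_sub, hinv, map_inv₀, hμσ, inv_neg, neg_smul, ← smul_neg, neg_sub]
      have key : lam • c' - σ lam • c' = v - Θ v := by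
        rw [← sub_smul, ← hμdef, hc'def, smul_inv_smul₀ hμ0]
      have hc : Θ (v - lam • c') = v - lam • c' := by
        rw [map_sub, hsmul, hc']
        calc Θ v - σ lam • c' = (lam • c' - σ lam • c') - (v - Θ v) + (v - lam • c') := by abel
          _ = v - lam • c' := by rw [key, sub_self, zero_add]
      refine ⟨(⟨v - lam • c', hc⟩, ⟨c', hc'⟩), ?_⟩
      show v - lam • c' + lam • c' = v
      rw [sub_add_cancel]
  rw [pow_two, ← Nat.card_prod]
  exact Nat.card_eq_of_bijective Ψ hbij

end fix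

section rev
variable {F : Type*} [Field F] {σ : F →+* F}

/-- the twisted-palindromic vectors -/
theorem card_fix_rev_sq (hσ : σ ≠ RingHom.id F) (hσ2 : ∀ a, σ (σ a) = a) (m : ℕ) (ε : F)
    (hε : ε * σ ε = 1) :
    Nat.card {c : Fin m → F // ∀ i, ε * σ (c (Fin.rev i)) = c i} ^ 2 = Nat.card F ^ m := by
  let Θ : (Fin m → F) →+ (Fin m → F) :=
    { toFun := fun c i => ε * σ (c (Fin.rev i))
      map_zero' := by
        funext i
        show ε * σ 0 = 0
        rw [map_zero, mul_zero]
      map_add' := fun c d => by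
        funext i
        show ε * σ (c (Fin.rev i) + d (Fin.rev i)) = ε * σ (c (Fin.rev i)) + ε * σ (d (Fin.rev i))
        rw [map_add, mul_add] }
  have hΘ : ∀ c i, Θ c i = ε * σ (c (Fin.rev i)) := fun c i => rfl
  have h1 := card_fix_sq hσ hσ2 Θ
    (fun a u => by
      funext i
      rw [hΘ, Pi.smul_apply, Pi.smul_apply, hΘ, smul_eq_mul, smul_eq_mul, map_mul]
      ring)
    (fun u => by
      funext i
      rw [hΘ, hΘ, Fin.rev_rev, map_mul, hσ2, ← mul_assoc, hε, one_mul])
  have h2 : Nat.card {c : Fin m → F // ∀ i, ε * σ (c (Fin.rev i)) = c i} =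
      Nat.card {w : Fin m → F // Θ w = w} :=
    Nat.card_congr (Equiv.subtypeEquivRight (fun c => by
      constructor
      · intro h; funext i; exact h i
      · intro h i; exact congrFun h i))
  rw [h2, h1, Nat.card_fun, Nat.card_fin]

end rev

end Cfsg.Agent.Lib.Helper5.SemiCount
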