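import Mathlib
import Cfsg.Agent.Lib.Helper5.SemiConj.Sp

set_option autoImplicit false

/-!
# Semisimple symplectic matrices conjugate in `GL` are conjugate in `Sp`
-/

namespace Cfsg.Agent.Lib.Helper5.SemiCount

open Polynomial Matrix

section spgl
variable {F : Type*} [Field F] [Fintype F] (p : ℕ) [Fact p.Prime] [CharP F p] (m : ℕ)

theorem symp_conj_iff_matrix_conj (A B : ↥(Matrix.symplecticGroup (Fin m) F))
    (hA : (orderOf A).Coprime p) :
    IsConj A B ↔ IsConj (A : Matrix (Fin m ⊕ Fin m) (Fin m ⊕ Fin m) F)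
      (B : Matrix (Fin m ⊕ Fin m) (Fin m ⊕ Fin m) F) := by
  constructor
  · intro h
    exact (Matrix.symplecticGroup (Fin m) F).subtype.map_isConj h
  · rintro ⟨u, hu⟩
    have hu' : (u : Matrix (Fin m ⊕ Fin m) (Fin m ⊕ Fin m) F) *
        (A : Matrix (Fin m ⊕ Fin m) (Fin m ⊕ Fin m) F) =
        (B : Matrix (Fin m ⊕ Fin m) (Fin m ⊕ Fin m) F) * u := hu
    have hB : (B : Matrix (Fin m ⊕ Fin m) (Fin m ⊕ Fin m) F) =
        (u : Matrix (Fin m ⊕ Fin m) (Fin m ⊕ Fin m) F) * A *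
          ((u⁻¹ : (Matrix (Fin m ⊕ Fin m) (Fin m ⊕ Fin m) F)ˣ) :
            Matrix (Fin m ⊕ Fin m) (Fin m ⊕ Fin m) F) := by
      rw [hu', Matrix.mul_assoc, Units.mul_inv, Matrix.mul_one]
    have hc : (A : Matrix (Fin m ⊕ Fin m) (Fin m ⊕ Fin m) F).charpoly =
        (B : Matrix (Fin m ⊕ Fin m) (Fin m ⊕ Fin m) F).charpoly := by
      rw [hB, Matrix.coe_units_inv, Matrix.charpoly_units_conj]
    have hpow : B ^ orderOf A = 1 := by
      apply Subtype.ext
      have h1 : ((B ^ orderOf A : ↥(Matrix.symplecticGroup (Fin m) F)) :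
          Matrix (Fin m ⊕ Fin m) (Fin m ⊕ Fin m) F) =
          (B : Matrix (Fin m ⊕ Fin m) (Fin m ⊕ Fin m) F) ^ orderOf A :=
        SubmonoidClass.coe_pow B (orderOf A)
      have h2 : (A : Matrix (Fin m ⊕ Fin m) (Fin m ⊕ Fin m) F) ^ orderOf A = 1 := by
        rw [← SubmonoidClass.coe_pow, pow_orderOf_eq_one]
        rfl
      have h3 := hu.pow_right (orderOf A)
      have h3' : (u : Matrix (Fin m ⊕ Fin m) (Fin m ⊕ Fin m) F) *
          (A : Matrix (Fin m ⊕ Fin m) (Fin m ⊕ Fin m) F) ^ orderOf A =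
          (B : Matrix (Fin m ⊕ Fin m) (Fin m ⊕ Fin m) F) ^ orderOf A * u := h3
      rw [h2, Matrix.mul_one] at h3'
      rw [h1]
      have h4 : (B : Matrix (Fin m ⊕ Fin m) (Fin m ⊕ Fin m) F) ^ orderOf A * u * 
          ((u⁻¹ : (Matrix (Fin m ⊕ Fin m) (Fin m ⊕ Fin m) F)ˣ) :
            Matrix (Fin m ⊕ Fin m) (Fin m ⊕ Fin m) F) = 1 := by
        rw [← h3', Units.mul_inv]
      rwa [Matrix.mul_assoc, Units.mul_inv, Matrix.mul_one] at h4
    have hBo : (orderOf B).Coprime p :=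
      Nat.Coprime.coprime_dvd_left (orderOf_dvd_of_pow_eq_one hpow) hA
    exact Cfsg.Agent.Lib.Helper5.SemiConj.symp_conj_of_charpoly_eq p m A B hA hBo hc

end spgl

end Cfsg.Agent.Lib.Helper5.SemiCount
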