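import Mathlib
import Cfsg.Agent.Lib.Helper5.SemiCount.SpChar
import Cfsg.Agent.Lib.Helper5.SemiCount.FixCount
import Cfsg.Agent.Lib.Helper5.SemiCount.UPeel
import Cfsg.Agent.Lib.Helper5.SemiConj.SU

set_option autoImplicit false

/-!
# The number of semisimple classes of `SU_n(q)` is `q^(n-1)`
-/

namespace Cfsg.Agent.Lib.Helper5.SemiCount

open Polynomial Module Matrix Cfsg
open Cfsg.Agent.Lib.Helper5.HermBridge Cfsg.Agent.Lib.Helper5.SemiConj
open Cfsg.Agent.Lib.Helper5.HermBlock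

universe u

section coef
variable {F : Type*} [Field F] (n : ℕ) (ε : F)

/-- the coefficient sequence `ε, c_0, …, c_{n-2}, 1, 0, …` -/
def uCoef (c : Fin (n - 1) → F) : ℕ → F :=
  fun j => if j = 0 then ε else if h : j - 1 < n - 1 then c ⟨j - 1, h⟩ else
    if j = n then 1 else 0

theorem uCoef_zero (c : Fin (n - 1) → F) : uCoef n ε c 0 = ε := by
  rw [uCoef, if_pos rfl]

theorem uCoef_succ (c : Fin (n - 1) → F) (i : Fin (n - 1)) : uCoef n ε c (i + 1) = c i := by
  rw [uCoef, if_neg (Nat.succ_ne_zero _), dif_pos (by rw [Nat.add_sub_cancel]; exact i.2)]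
  congr 1

theorem uCoef_self (hn : 1 ≤ n) (c : Fin (n - 1) → F) : uCoef n ε c n = 1 := by
  rw [uCoef, if_neg (by omega), dif_neg (lt_irrefl _), if_pos rfl]

theorem uCoef_gt (c : Fin (n - 1) → F) (j : ℕ) (h : n < j) : uCoef n ε c j = 0 := by
  rw [uCoef, if_neg (by omega), dif_neg (by omega), if_neg (by omega)]

/-- the monic polynomial with constant term `ε` and middle coefficients `c` -/
noncomputable def uPoly (c : Fin (n - 1) → F) : F[X] :=
  ∑ j ∈ Finset.range (n + 1), C (uCoef n ε c j) * X ^ j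

theorem uPoly_coeff (c : Fin (n - 1) → F) (i : ℕ) : (uPoly n ε c).coeff i = uCoef n ε c i := by
  rw [uPoly, finsetSum_coeff]
  simp_rw [coeff_C_mul_X_pow]
  rw [Finset.sum_ite_eq]
  by_cases hi : i ∈ Finset.range (n + 1)
  · rw [if_pos hi]
  · rw [if_neg hi, uCoef_gt]
    have := Finset.mem_range.not.mp hi
    omega

theorem uPoly_natDegree_le (c : Fin (n - 1) → F) : (uPoly n ε c).natDegree ≤ n := by
  rw [natDegree_le_iff_coeff_eq_zero]
  intro i hi
  rw [uPoly_coeff, uCoef_gt n ε c i hi]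

theorem uPoly_monic (hn : 1 ≤ n) (c : Fin (n - 1) → F) : (uPoly n ε c).Monic :=
  Polynomial.monic_of_natDegree_le_of_coeff_eq_one n (uPoly_natDegree_le n ε c)
    (by rw [uPoly_coeff, uCoef_self n ε hn])

theorem uPoly_natDegree (hn : 1 ≤ n) (c : Fin (n - 1) → F) : (uPoly n ε c).natDegree = n :=
  natDegree_eq_of_le_of_coeff_ne_zero (uPoly_natDegree_le n ε c)
    (by rw [uPoly_coeff, uCoef_self n ε hn]; exact one_ne_zero)

/-- the middle coefficients of a polynomial -/
def cOf (χ : F[X]) : Fin (n - 1) → F := fun i => χ.coeff (i + 1)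

theorem cOf_uPoly (c : Fin (n - 1) → F) : cOf n (uPoly n ε c) = c := by
  funext i
  rw [cOf, uPoly_coeff, uCoef_succ]

theorem eq_uPoly (hn : 1 ≤ n) (χ : F[X]) (hm : χ.Monic) (hdeg : χ.natDegree = n)
    (h0 : χ.coeff 0 = ε) : χ = uPoly n ε (cOf n χ) := by
  ext j
  rw [uPoly_coeff]
  rcases Nat.eq_zero_or_pos j with hj | hj
  · rw [hj, uCoef_zero, h0]
  rcases lt_trichotomy j n with h | h | h
  · have hlt : j - 1 < n - 1 := by omega
    have := uCoef_succ n ε (cOf n χ) ⟨j - 1, hlt⟩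
    have hj' : j - 1 + 1 = j := by omega
    simp only [hj'] at this
    rw [this, cOf]
    simp only [hj']
  · rw [h, uCoef_self n ε hn, ← hdeg]
    exact hm.coeff_natDegree
  · rw [uCoef_gt n ε _ j h, coeff_eq_zero_of_natDegree_lt (by rw [hdeg]; exact h)]

theorem star_uPoly (σ : F →+* F) (hn : 1 ≤ n) (hε1 : σ ε = ε) (hε2 : ε * ε = 1)
    (c : Fin (n - 1) → F) (hc : ∀ i, ε * σ (c (Fin.rev i)) = c i) :
    star σ (uPoly n ε c) = uPoly n ε c := by
  have hε0 : ε ≠ 0 := left_ne_zero_of_mul_eq_one hε2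
  have hεi : ε⁻¹ = ε := inv_eq_of_mul_eq_one_left hε2
  have h0 : (uPoly n ε c).coeff 0 ≠ 0 := by rw [uPoly_coeff, uCoef_zero]; exact hε0
  have hd := uPoly_natDegree n ε hn c
  ext j
  rcases Nat.lt_or_ge n j with hj | hj
  · rw [coeff_eq_zero_of_natDegree_lt (by rw [star_natDegree σ h0, hd]; exact hj),
      coeff_eq_zero_of_natDegree_lt (by rw [hd]; exact hj)]
  · rw [star_coeff σ _ j (by rw [hd]; exact hj), hd, uPoly_coeff, uPoly_coeff, uPoly_coeff,
      uCoef_zero, hε1, hεi]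
    rcases Nat.eq_zero_or_pos j with hj0 | hj0
    · rw [hj0, Nat.sub_zero, uCoef_self n ε hn, uCoef_zero, map_one, mul_one]
    rcases Nat.lt_or_ge j n with h | h
    · have hlt : j - 1 < n - 1 := by omega
      have e1 := uCoef_succ n ε c ⟨j - 1, hlt⟩
      have e2 := uCoef_succ n ε c (Fin.rev ⟨j - 1, hlt⟩)
      have hj' : j - 1 + 1 = j := by omega
      have hj'' : ((Fin.rev (⟨j - 1, hlt⟩ : Fin (n - 1)) : Fin (n - 1)) : ℕ) + 1 = n - j := by
        rw [Fin.val_rev]
        show n - 1 - (j - 1 + 1) + 1 = n - j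
        omega
      simp only [hj'] at e1
      simp only [hj''] at e2
      rw [e1, e2]
      exact hc _
    · have hjn : j = n := le_antisymm hj h
      rw [hjn, Nat.sub_self, uCoef_zero, uCoef_self n ε hn, hε1, hε2]

theorem cOf_mem_of_star (σ : F →+* F) (hε1 : σ ε = ε) (hε2 : ε * ε = 1) (χ : F[X])
    (hdeg : χ.natDegree = n) (h0 : χ.coeff 0 = ε) (hst : star σ χ = χ) (i : Fin (n - 1)) :
    ε * σ (cOf n χ (Fin.rev i)) = cOf n χ i := by
  have hεi : ε⁻¹ = ε := inv_eq_of_mul_eq_one_left hε2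
  have hi : (i : ℕ) + 1 ≤ χ.natDegree := by rw [hdeg]; omega
  have h1 := star_coeff σ χ (i + 1) hi
  rw [hst, h0, hε1, hεi, hdeg] at h1
  rw [cOf, cOf, h1]
  congr 3
  rw [Fin.val_rev]
  omega

end coef

section su
variable {F : Type u} [Field F] [Fintype F] {q : ℕ} (hF : Fintype.card F = q ^ 2) (n : ℕ)

include hF in
theorem su_transpose_mul_map (A : ↥(Cfsg.SU n F q)) :
    (suMat n A)ᵀ * (suMat n A).map (sigma hF) = 1 := by
  have hdet : (suMat n A).det = 1 := A.1.2
  let g : Matrix.GeneralLinearGroup (Fin n) F :=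
    Matrix.GeneralLinearGroup.mkOfDetNeZero (suMat n A) (by rw [hdet]; exact one_ne_zero)
  have hg : g ∈ Cfsg.GU n F q := fun u v => A.2 u v
  exact (mem_GU_iff hF g).mp hg

theorem su_charpoly_star (A : ↥(Cfsg.SU n F q)) :
    star (sigma hF) (suMat n A).charpoly = (suMat n A).charpoly := by
  have hdet : (suMat n A).det = 1 := A.1.2
  have hT := su_transpose_mul_map hF n A
  have hN : (suMat n A)⁻¹ = ((suMat n A).map (sigma hF))ᵀ := by
    apply Matrix.inv_eq_left_inv
    have := congrArg Matrix.transpose hT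
    rwa [Matrix.transpose_mul, Matrix.transpose_transpose, Matrix.transpose_one] at this
  have h := charpoly_inv_map_transpose (sigma hF) (suMat n A) (by rw [hdet]; exact one_ne_zero)
  rw [hN, Matrix.transpose_map, Matrix.transpose_transpose,
    map_map_self (sigma hF) (sigma_sigma hF)] at h
  exact h.symm

omit [Fintype F] in
theorem su_charpoly_coeff_zero (A : ↥(Cfsg.SU n F q)) :
    (suMat n A).charpoly.coeff 0 = (-1) ^ n := by
  have hdet : (suMat n A).det = 1 := A.1.2
  have h := Matrix.det_eq_sign_charpoly_coeff (suMat n A)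
  rw [hdet, Fintype.card_fin] at h
  have h2 : ((-1 : F) ^ n) * ((-1) ^ n) = 1 := by
    rw [← mul_pow, neg_one_mul, neg_neg, one_pow]
  calc (suMat n A).charpoly.coeff 0 = ((-1 : F) ^ n * (-1) ^ n) * (suMat n A).charpoly.coeff 0 := by
        rw [h2, one_mul]
    _ = (-1) ^ n * ((-1) ^ n * (suMat n A).charpoly.coeff 0) := by ring
    _ = (-1) ^ n := by rw [← h, mul_one]

omit [Fintype F] in
theorem su_charpoly_conj (g h : ↥(Cfsg.SU n F q)) (hc : IsConj g h) :
    (suMat n g).charpoly = (suMat n h).charpoly := by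
  obtain ⟨c, rfl⟩ := isConj_iff.mp hc
  have h2 : suMat n c⁻¹ * suMat n c = 1 := by
    rw [← suMat_mul, inv_mul_cancel, suMat_one]
  rw [suMat_mul, suMat_mul, Matrix.charpoly_mul_comm, ← Matrix.mul_assoc, h2, Matrix.one_mul]

end su

section final
variable {F : Type u} [Field F] [Fintype F] {q : ℕ} (hF : Fintype.card F = q ^ 2)
  (p : ℕ) [Fact p.Prime] [CharP F p] (n : ℕ)

include hF in
theorem card_su_semisimple_classes (hn : 1 ≤ n) :
    Nat.card {c : ConjClasses ↥(Cfsg.SU n F q) //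
      ∃ g : ↥(Cfsg.SU n F q), ConjClasses.mk g = c ∧ (orderOf g).Coprime p} = q ^ (n - 1) := by
  classical
  obtain ⟨ε, hεdef⟩ : ∃ ε : F, ε = (-1) ^ n := ⟨_, rfl⟩
  have hε1 : sigma hF ε = ε := by rw [hεdef, map_pow, map_neg, map_one]
  have hε2 : ε * ε = 1 := by rw [hεdef, ← mul_pow, neg_one_mul, neg_neg, one_pow]
  let P := {c : Fin (n - 1) → F // ∀ i, ε * sigma hF (c (Fin.rev i)) = c i}
  have hP : Nat.card P = q ^ (n - 1) := by
    have h := card_fix_rev_sq (sigma_ne_id hF) (sigma_sigma hF) (n - 1) ε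
      (by rw [hε1]; exact hε2)
    rw [Nat.card_eq_fintype_card (α := F), hF, ← pow_mul, mul_comm, pow_mul] at h
    exact Nat.pow_left_injective (by norm_num : (2 : ℕ) ≠ 0) h
  let S := {c : ConjClasses ↥(Cfsg.SU n F q) //
      ∃ g : ↥(Cfsg.SU n F q), ConjClasses.mk g = c ∧ (orderOf g).Coprime p}
  let rep : S → ↥(Cfsg.SU n F q) := fun k => k.2.choose
  have hrep : ∀ k : S, ConjClasses.mk (rep k) = k.1 ∧ (orderOf (rep k)).Coprime p :=
    fun k => k.2.choose_spec
  have hχ0 : ∀ A : ↥(Cfsg.SU n F q), (suMat n A).charpoly.coeff 0 = ε := by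
    rw [hεdef]; exact su_charpoly_coeff_zero n
  have hχdeg : ∀ A : ↥(Cfsg.SU n F q), (suMat n A).charpoly.natDegree = n := by
    intro A
    rw [Matrix.charpoly_natDegree_eq_dim, Fintype.card_fin]
  let Φ : S → P := fun k => ⟨cOf n (suMat n (rep k)).charpoly,
    cOf_mem_of_star n ε (sigma hF) hε1 hε2 _ (hχdeg _) (hχ0 _) (su_charpoly_star hF n _)⟩
  have hΦ : ∀ k : S, (suMat n (rep k)).charpoly = uPoly n ε (Φ k).1 :=
    fun k => eq_uPoly n ε hn _ (Matrix.charpoly_monic _) (hχdeg _) (hχ0 _)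
  have hbij : Function.Bijective Φ := by
    constructor
    · intro k k' hkk
      have h1 : (suMat n (rep k)).charpoly = (suMat n (rep k')).charpoly := by
        rw [hΦ k, hΦ k', hkk]
      have h2 : IsConj (rep k) (rep k') :=
        su_conj_of_charpoly_eq hF p n (rep k) (rep k') (hrep k).2 (hrep k').2 h1
      apply Subtype.ext
      rw [← (hrep k).1, ← (hrep k').1]
      exact ConjClasses.mk_eq_mk_iff_isConj.mpr h2
    · intro c
      have hst := star_uPoly n ε (sigma hF) hn hε1 hε2 c.1 c.2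
      obtain ⟨A, hA⟩ := exists_SU_charpoly hF n (uPoly n ε c.1) (uPoly_natDegree n ε hn c.1)
        (uPoly_monic n ε hn c.1) (by rw [uPoly_coeff, uCoef_zero, hεdef]) hst
      obtain ⟨h, hh, hch⟩ := exists_coprime_order_same_charpoly p
        ((slToMat n F).comp (Cfsg.SU n F q).subtype) A (isOfFinOrder_of_finite A)
      have hch' : (suMat n h).charpoly = uPoly n ε c.1 := by
        rw [← hA]; exact hch
      let k : S := ⟨ConjClasses.mk h, h, rfl, hh⟩
      refine ⟨k, ?_⟩
      apply Subtype.ext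
      show cOf n (suMat n (rep k)).charpoly = c.1
      have hconj : IsConj (rep k) h := ConjClasses.mk_eq_mk_iff_isConj.mp (hrep k).1
      rw [su_charpoly_conj n _ _ hconj, hch', cOf_uPoly]
  rw [Nat.card_eq_of_bijective Φ hbij, hP]

end final

end Cfsg.Agent.Lib.Helper5.SemiCount
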